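import Groth.Prelude.Def_W4c5ffgsreadingcourseOT
import Mathlib.RingTheory.HopfAlgebra.Convolution
import Mathlib.RingTheory.HopfAlgebra.TensorProduct

/-!
Convolution powers of the identity and their behaviour under base change.
-/

set_option autoImplicit false

noncomputable section

universe u

open TensorProduct
open WithConv Coalgebra

namespace Groth.L15.OT

variable {R : Type u} [CommRing R] {A : Type u} [CommRing A] [HopfAlgebra R A]

/-- Postcomposition with an algebra map, for convolution. -/
def postH {B C : Type u} [CommRing B] [Algebra R B] [CommRing C] [Algebra R C] (φ : B →ₐ[R] C) :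
    WithConv (A →ₐ[R] B) →* WithConv (A →ₐ[R] C) where
  toFun f := toConv (φ.comp f.ofConv)
  map_one' := by
    apply WithConv.ext
    exact AlgHom.ext fun a => φ.commutes _
  map_mul' f g := by
    apply WithConv.ext
    exact AlgHom.comp_convMul_distrib φ f g

theorem toConv_powConv (n : ℕ) :
    toConv (SGA3b.powConv R A n) = toConv (AlgHom.id R A) ^ n := rfl

theorem comp_powConv {C : Type u} [CommRing C] [Algebra R C] (φ : A →ₐ[R] C) (n : ℕ) :
    toConv (φ.comp (SGA3b.powConv R A n)) = toConv φ ^ n :=
  map_pow (postH φ) (toConv (AlgHom.id R A)) n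

theorem comp_powConv_apply {C : Type u} [CommRing C] [Algebra R C] (φ : A →ₐ[R] C) (n : ℕ) (a : A) :
    φ (SGA3b.powConv R A n a) = (toConv φ ^ n : WithConv (A →ₐ[R] C)).ofConv a :=
  AlgHom.congr_fun (congrArg WithConv.ofConv (comp_powConv φ n)) a

theorem powConv_powConv (m n : ℕ) (a : A) :
    SGA3b.powConv R A m (SGA3b.powConv R A n a) = SGA3b.powConv R A (m * n) a := by
  rw [comp_powConv_apply, toConv_powConv, ← pow_mul]
  rfl

theorem powConv_one (a : A) : SGA3b.powConv R A 1 a = a := by
  simp [SGA3b.powConv]

theorem powConv_zero (a : A) :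
    SGA3b.powConv R A 0 a = algebraMap R A (Bialgebra.counitAlgHom R A a) := by
  simp [SGA3b.powConv]

theorem toConv_counit :
    toConv (Bialgebra.counitAlgHom R A) = (1 : WithConv (A →ₐ[R] R)) := by
  apply WithConv.ext
  exact AlgHom.ext fun a => by simp

theorem counit_powConv (n : ℕ) (a : A) :
    Bialgebra.counitAlgHom R A (SGA3b.powConv R A n a) = Bialgebra.counitAlgHom R A a := by
  rw [comp_powConv_apply, toConv_counit, one_pow, ← toConv_counit]

/-- The hypothesis that the group is killed by `p`. -/
def Killed (R : Type u) [CommRing R] (A : Type u) [CommRing A] [HopfAlgebra R A] (p : ℕ) : Prop :=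
  toConv (AlgHom.id R A) ^ p = 1

theorem Killed.powConv_mod {p : ℕ} (h : Killed R A p) (n : ℕ) :
    SGA3b.powConv R A n = SGA3b.powConv R A (n % p) := by
  conv_lhs => rw [← Nat.div_add_mod n p]
  unfold SGA3b.powConv
  rw [pow_add, pow_mul, h, one_pow, one_mul]

/-- Restriction of a linear map on the base change, for convolution. -/
def res {S : Type u} [CommRing S] [Algebra R S] {B : Type u} [CommRing B] [Algebra R B] [Algebra S B]
    [IsScalarTower R S B] (f : WithConv (S ⊗[R] A →ₗ[S] B)) : WithConv (A →ₗ[R] B) :=
  toConv ((f.ofConv.restrictScalars R).comp (TensorProduct.mk R S A 1))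

variable {S : Type u} [CommRing S] [Algebra R S] {B : Type u} [CommRing B] [Algebra R B] [Algebra S B]
    [IsScalarTower R S B]

theorem res_apply (f : WithConv (S ⊗[R] A →ₗ[S] B)) (a : A) :
    (res f).ofConv a = f.ofConv (1 ⊗ₜ[R] a) := rfl

theorem res_injective : Function.Injective (res (R := R) (A := A) (S := S) (B := B)) := by
  intro f g h
  apply WithConv.ext
  refine TensorProduct.AlgebraTensorModule.ext fun s a => ?_
  have h1 := LinearMap.congr_fun (congrArg WithConv.ofConv h) a
  rw [res_apply, res_apply] at h1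
  rw [← mul_one s, ← smul_eq_mul, ← TensorProduct.smul_tmul', map_smul, map_smul, h1]

theorem res_mul (f g : WithConv (S ⊗[R] A →ₗ[S] B)) : res (f * g) = res f * res g := by
  apply WithConv.ext
  refine LinearMap.ext fun a => ?_
  rw [res_apply, LinearMap.convMul_apply, LinearMap.convMul_apply, TensorProduct.comul_tmul,
    CommSemiring.comul_apply, ← (ℛ R a).eq]
  simp only [map_sum, TensorProduct.tmul_sum, TensorProduct.AlgebraTensorModule.tensorTensorTensorComm_tmul,
    TensorProduct.map_tmul, LinearMap.mul'_apply, res_apply]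

theorem res_one : res (R := R) (A := A) (1 : WithConv (S ⊗[R] A →ₗ[S] B)) = 1 := by
  apply WithConv.ext
  refine LinearMap.ext fun a => ?_
  rw [res_apply, LinearMap.convOne_apply, LinearMap.convOne_apply, TensorProduct.counit_tmul,
    CommSemiring.counit_apply, Algebra.smul_def, mul_one, ← IsScalarTower.algebraMap_apply]

theorem res_pow (f : WithConv (S ⊗[R] A →ₗ[S] B)) (n : ℕ) : res (f ^ n) = res f ^ n := by
  induction n with
  | zero => simp [res_one]
  | succ n ih => rw [pow_succ, pow_succ, res_mul, ih]

variable (S) in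
/-- Convolution powers of the identity commute with base change. -/
theorem powConv_baseChange (n : ℕ) (a : A) :
    SGA3b.powConv S (S ⊗[R] A) n (1 ⊗ₜ[R] a) = (1 : S) ⊗ₜ[R] SGA3b.powConv R A n a := by
  have h1 := res_pow (R := R) (A := A) (toConv (AlgHom.id S (S ⊗[R] A)).toLinearMap : WithConv (S ⊗[R] A →ₗ[S] S ⊗[R] A)) n
  rw [← AlgHom.toLinearMap_convPow (toConv (AlgHom.id S (S ⊗[R] A)))] at h1
  have h2 := LinearMap.congr_fun (congrArg WithConv.ofConv h1) a
  rw [res_apply] at h2
  refine Eq.trans h2 ?_
  have h3 := AlgHom.toLinearMap_convPow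
    (toConv (Algebra.TensorProduct.includeRight (R := R) (A := S) (B := A))) n
  have h4 := comp_powConv_apply (R := R) (A := A)
    (Algebra.TensorProduct.includeRight (R := R) (A := S) (B := A)) n a
  refine Eq.trans ?_ h4.symm
  exact (LinearMap.congr_fun (congrArg WithConv.ofConv h3) a).symm

variable (S) in
theorem counit_baseChange (a : A) :
    Bialgebra.counitAlgHom S (S ⊗[R] A) (1 ⊗ₜ[R] a) = algebraMap R S (Bialgebra.counitAlgHom R A a) := by
  simp [TensorProduct.counit_tmul, Algebra.algebraMap_eq_smul_one]

end Groth.L15.OT
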