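import Groth.Agent.L15.OT.Field
import Groth.Prelude.Def_CartDual
import Mathlib.RingTheory.Spectrum.Prime.FreeLocus
import Mathlib.RingTheory.LocalRing.Module
import Mathlib.RingTheory.LocalRing.ResidueField.Basic
import Mathlib.FieldTheory.IsAlgClosed.AlgebraicClosure
import Mathlib.RingTheory.Localization.AtPrime.Basic
import Mathlib.LinearAlgebra.Matrix.Adjugate
import Mathlib.LinearAlgebra.Matrix.NonsingularInverse
import Mathlib.LinearAlgebra.TensorProduct.Basis
import Mathlib.RingTheory.TensorProduct.Finite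

/-!
A Hopf algebra of rank `p` is cocommutative.
-/

set_option autoImplicit false

noncomputable section

universe u

open TensorProduct
open WithConv Coalgebra

namespace Groth.L15.OT

variable {R : Type u} [CommRing R] {A : Type u} [CommRing A] [HopfAlgebra R A]
  [Module.Finite R A] [Module.Projective R A] {p : ℕ} [hpF : Fact p.Prime]

omit hpF in
/-- The rank of a base change to a local ring. -/
theorem finrank_baseChange_local (hrk : ∀ q : PrimeSpectrum R, Module.rankAtStalk A q = p)
    (S : Type u) [CommRing S] [Algebra R S] [IsLocalRing S] :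
    Module.Free S (S ⊗[R] A) ∧ Module.finrank S (S ⊗[R] A) = p := by
  haveI : Module.Free S (S ⊗[R] A) := Module.free_of_flat_of_isLocalRing
  refine ⟨inferInstance, ?_⟩
  have h := Module.rankAtStalk_baseChange (R := R) (M := A) (S := S)
    ⟨IsLocalRing.maximalIdeal S, inferInstance⟩
  rw [Module.rankAtStalk_eq_finrank_of_free, hrk] at h
  exact h

theorem algHom_comp_pow {S : Type u} [CommRing S] {B : Type u} [CommRing B] [HopfAlgebra S B]
    {P P' : Type u} [CommRing P] [Algebra S P] [CommRing P'] [Algebra S P'] (ev : P →ₐ[S] P')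
    (Ξ : WithConv (B →ₗ[S] P)) (t : ℕ) :
    (toConv (ev.toLinearMap ∘ₗ (Ξ ^ t).ofConv) : WithConv (B →ₗ[S] P')) =
      toConv (ev.toLinearMap ∘ₗ Ξ.ofConv) ^ t := by
  induction t with
  | zero =>
    apply WithConv.ext
    refine LinearMap.ext fun a => ?_
    simp
  | succ t ih =>
    rw [pow_succ Ξ, pow_succ, LinearMap.algHom_comp_convMul_distrib, WithConv.toConv_ofConv, ih]

/-- A generic generator of the dual algebra over an algebraic closure of the residue field. -/
theorem exists_gen_residue (S : Type u) [CommRing S] [IsLocalRing S] (B : Type u) [CommRing B] [HopfAlgebra S B]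
    [Module.Finite S B] [Module.Free S B] (hB : Module.finrank S B = p) (b : Module.Basis (Fin p) S B) :
    ∃ η : WithConv (B →ₗ[S] AlgebraicClosure (IsLocalRing.ResidueField S)),
      IsUnit (Matrix.of fun t a : Fin p => (η ^ (t : ℕ)).ofConv (b a)).det := by
  classical
  let K := AlgebraicClosure (IsLocalRing.ResidueField S)
  have hK : Module.finrank K (K ⊗[S] B) = p := by rw [Module.finrank_baseChange, hB]
  obtain ⟨ξ, hξ⟩ := exists_dual_gen (k := K) (A := K ⊗[S] B) hK
  refine ⟨res ξ, ?_⟩
  rw [← Matrix.isUnit_iff_isUnit_det, ← Matrix.linearIndependent_rows_iff_isUnit,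
    Fintype.linearIndependent_iff]
  intro c hc
  refine Fintype.linearIndependent_iff.1 hξ c ((Algebra.TensorProduct.basis K b).ext fun a => ?_)
  have h := congrFun hc a
  simp only [Finset.sum_apply, Pi.smul_apply, Matrix.row, Matrix.of_apply, Pi.zero_apply] at h
  rw [LinearMap.sum_apply, LinearMap.zero_apply, ← h]
  refine Finset.sum_congr rfl fun t _ => ?_
  rw [Algebra.TensorProduct.basis_apply, LinearMap.smul_apply, ← res_pow]
  rfl

omit hpF in
/-- A polynomial not vanishing at a point over the residue field has a unit coefficient. -/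
theorem exists_isUnit_coeff (S : Type u) [CommRing S] [IsLocalRing S]
    (c : Fin p → AlgebraicClosure (IsLocalRing.ResidueField S)) (q : MvPolynomial (Fin p) S)
    (hq : MvPolynomial.aeval c q ≠ 0) : ∃ s, IsUnit (MvPolynomial.coeff s q) := by
  classical
  by_contra hc
  push Not at hc
  refine hq ?_
  rw [q.as_sum, map_sum]
  refine Finset.sum_eq_zero fun s _ => ?_
  have hz : algebraMap S (AlgebraicClosure (IsLocalRing.ResidueField S)) (MvPolynomial.coeff s q) = 0 := by
    rw [IsScalarTower.algebraMap_apply S (IsLocalRing.ResidueField S),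
      show algebraMap S (IsLocalRing.ResidueField S) (MvPolynomial.coeff s q) =
        IsLocalRing.residue S (MvPolynomial.coeff s q) from rfl,
      (IsLocalRing.residue_eq_zero_iff _).2 (hc s), map_zero]
  rw [MvPolynomial.aeval_monomial, hz, zero_mul]

omit hpF in
/-- The powers of a functional span after scaling by their determinant. -/
theorem exists_span_pow {S : Type u} [CommRing S] {B : Type u} [CommRing B] [HopfAlgebra S B]
    {P : Type u} [CommRing P] [Algebra S P] (b : Module.Basis (Fin p) S B) (Ξ f : WithConv (B →ₗ[S] P)) :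
    ∃ c : Fin p → P, (Matrix.of fun t a : Fin p => (Ξ ^ (t : ℕ)).ofConv (b a)).det • f =
      ∑ t : Fin p, c t • Ξ ^ (t : ℕ) := by
  classical
  set M : Matrix (Fin p) (Fin p) P := Matrix.of fun t a => (Ξ ^ (t : ℕ)).ofConv (b a) with hM
  refine ⟨Matrix.vecMul (fun a => f.ofConv (b a)) M.adjugate, ?_⟩
  apply WithConv.ext
  refine b.ext fun a => ?_
  rw [WithConv.ofConv_smul, LinearMap.smul_apply]
  have h := congrFun (Matrix.vecMul_vecMul (fun a => f.ofConv (b a)) M.adjugate M) a
  rw [Matrix.adjugate_mul, Matrix.vecMul_smul, Matrix.vecMul_one, Pi.smul_apply] at h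
  refine h.symm.trans ?_
  rw [WithConv.ofConv_sum, LinearMap.sum_apply]
  simp only [Matrix.vecMul, dotProduct, WithConv.ofConv_smul, LinearMap.smul_apply, smul_eq_mul, hM,
    Matrix.of_apply]

/-- Local case: the dual algebra is commutative. -/
theorem dual_comm_local (S : Type u) [CommRing S] [IsLocalRing S] (B : Type u) [CommRing B] [HopfAlgebra S B]
    [Module.Finite S B] [Module.Free S B] (hB : Module.finrank S B = p) (φ ψ : WithConv (B →ₗ[S] S)) :
    φ * ψ = ψ * φ := by
  classical
  let b := Module.finBasisOfFinrankEq S B hB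
  obtain ⟨η, hη⟩ := exists_gen_residue S B hB b
  let Ξ : WithConv (B →ₗ[S] MvPolynomial (Fin p) S) := toConv (b.constr S fun a => MvPolynomial.X a)
  let ev := MvPolynomial.aeval (R := S) fun a => η.ofConv (b a)
  have hev1 : (toConv (ev.toLinearMap ∘ₗ Ξ.ofConv) : WithConv (B →ₗ[S] _)) = η := by
    apply WithConv.ext
    refine b.ext fun a => ?_
    simp only [Ξ, WithConv.ofConv_toConv, LinearMap.comp_apply, Module.Basis.constr_basis]
    exact MvPolynomial.aeval_X _ _
  set M : Matrix (Fin p) (Fin p) (MvPolynomial (Fin p) S) :=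
    Matrix.of fun t a => (Ξ ^ (t : ℕ)).ofConv (b a) with hM
  have hevd : ev M.det = (Matrix.of fun t a : Fin p => (η ^ (t : ℕ)).ofConv (b a)).det := by
    rw [AlgHom.map_det]
    congr 1
    ext t a
    have h := algHom_comp_pow ev Ξ (t : ℕ)
    rw [hev1] at h
    exact LinearMap.congr_fun (congrArg WithConv.ofConv h) (b a)
  let ι : WithConv (B →ₗ[S] S) → WithConv (B →ₗ[S] MvPolynomial (Fin p) S) := fun f =>
    toConv ((Algebra.ofId S _).toLinearMap ∘ₗ f.ofConv)
  have hιmul : ∀ f g, ι (f * g) = ι f * ι g := fun f g =>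
    congrArg toConv (LinearMap.algHom_comp_convMul_distrib (Algebra.ofId S _) f g)
  have hcomm : (M.det • ι φ) * (M.det • ι ψ) = (M.det • ι ψ) * (M.det • ι φ) := by
    obtain ⟨c, hc⟩ := exists_span_pow b Ξ (ι φ)
    obtain ⟨c', hc'⟩ := exists_span_pow b Ξ (ι ψ)
    rw [← hM] at hc hc'
    rw [hc, hc']
    exact (Commute.sum_left _ _ _ fun t _ => Commute.sum_right _ _ _ fun t' _ =>
      ((Commute.pow_pow (Commute.refl Ξ) _ _).smul_left _).smul_right _).eq
  rw [smul_mul_smul_comm, smul_mul_smul_comm, ← hιmul, ← hιmul] at hcomm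
  obtain ⟨s, hs⟩ := exists_isUnit_coeff S (fun a => η.ofConv (b a)) (M.det * M.det) (by
    show ev (M.det * M.det) ≠ 0
    rw [map_mul, hevd]; exact (hη.mul hη).ne_zero)
  apply WithConv.ext
  refine LinearMap.ext fun a => ?_
  have h := congrArg (fun F : WithConv (B →ₗ[S] MvPolynomial (Fin p) S) => F.ofConv a) hcomm
  simp only [ι, WithConv.ofConv_smul, WithConv.ofConv_toConv, LinearMap.smul_apply, LinearMap.comp_apply,
    AlgHom.toLinearMap_apply, Algebra.ofId_apply, MvPolynomial.algebraMap_eq, smul_eq_mul] at h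
  have h' := congrArg (MvPolynomial.coeff s) h
  rw [mul_comm (M.det * M.det), mul_comm (M.det * M.det), MvPolynomial.coeff_C_mul,
    MvPolynomial.coeff_C_mul] at h'
  exact hs.mul_right_cancel h'

/-- The dual algebra of a Hopf algebra of rank `p` is commutative. -/
theorem dual_comm (hrk : ∀ q : PrimeSpectrum R, Module.rankAtStalk A q = p) (φ ψ : WithConv (A →ₗ[R] R)) :
    φ * ψ = ψ * φ := by
  apply WithConv.ext
  refine LinearMap.ext fun a => ?_
  rw [← sub_eq_zero]
  set x := (φ * ψ).ofConv a - (ψ * φ).ofConv a with hx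
  by_contra hne
  have hann : (Ideal.torsionOf R R x) ≠ ⊤ := by
    intro h
    exact hne ((Ideal.torsionOf_eq_top_iff (R := R) x).1 h)
  obtain ⟨𝔪, h𝔪, hle⟩ := Ideal.exists_le_maximal _ hann
  let S := Localization.AtPrime 𝔪
  obtain ⟨_, hS⟩ := finrank_baseChange_local hrk S
  let lift' : WithConv (A →ₗ[R] R) → WithConv (S ⊗[R] A →ₗ[S] S) := fun f =>
    toConv (((Algebra.linearMap R S) ∘ₗ f.ofConv).liftBaseChange S)
  have hlift : ∀ f, res (lift' f) = toConv ((Algebra.ofId R S).toLinearMap ∘ₗ f.ofConv) := by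
    intro f
    apply WithConv.ext
    refine LinearMap.ext fun c => ?_
    rw [res_apply]
    simp [lift']
  have h := congrArg res (dual_comm_local S (S ⊗[R] A) hS (lift' φ) (lift' ψ))
  rw [res_mul, res_mul, hlift, hlift] at h
  have e : ∀ f g : WithConv (A →ₗ[R] R), (toConv ((Algebra.ofId R S).toLinearMap ∘ₗ f.ofConv) *
      toConv ((Algebra.ofId R S).toLinearMap ∘ₗ g.ofConv)).ofConv a = algebraMap R S ((f * g).ofConv a) := by
    intro f g
    rw [← LinearMap.algHom_comp_convMul_distrib]
    rfl
  have h2 := LinearMap.congr_fun (congrArg WithConv.ofConv h) a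
  rw [e, e, ← sub_eq_zero, ← map_sub, ← hx, IsLocalization.map_eq_zero_iff 𝔪.primeCompl S] at h2
  obtain ⟨⟨t, ht⟩, htx⟩ := h2
  exact ht (hle ((Ideal.mem_torsionOf_iff x t).2 htx))

/-- A Hopf algebra of rank `p` is cocommutative. -/
theorem isCocomm (hrk : ∀ q : PrimeSpectrum R, Module.rankAtStalk A q = p) : Coalgebra.IsCocomm R A := by
  refine ⟨LinearMap.ext fun a => ?_⟩
  rw [← sub_eq_zero]
  refine (Module.forall_dual_apply_eq_zero_iff R _).1 fun Φ => ?_
  obtain ⟨z, rfl⟩ := (CartDual.dualTensorEquiv R A A).surjective Φ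
  rw [CartDual.dualTensorEquiv_apply]
  induction z using TensorProduct.induction_on with
  | zero => simp
  | tmul f g =>
    have h := LinearMap.congr_fun (congrArg WithConv.ofConv (dual_comm hrk (toConv f) (toConv g))) a
    rw [LinearMap.convMul_apply, LinearMap.convMul_apply] at h
    rw [LinearMap.comp_apply, map_sub, sub_eq_zero]
    simp only [LinearEquiv.coe_coe]
    rw [← (ℛ R a).eq] at h ⊢
    simp only [map_sum, TensorProduct.comm_tmul, TensorProduct.map_tmul, LinearMap.mul'_apply,
      TensorProduct.dualDistrib_apply, WithConv.ofConv_toConv] at h ⊢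
    rw [h]
    exact Finset.sum_congr rfl fun i _ => mul_comm _ _
  | add x y hx hy => simp only [map_add, LinearMap.add_apply, hx, hy, add_zero]

end Groth.L15.OT
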