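import Groth.Agent.L15.OT.Cocomm
import Mathlib.RingTheory.Norm.Basic

/-!
A commutative finite locally free group is killed by its rank.
-/

set_option autoImplicit false

noncomputable section

universe u

open TensorProduct
open WithConv Coalgebra

namespace Groth.L15.OT

section free

variable {R : Type u} [CommRing R] {A : Type u} [CommRing A] [HopfAlgebra R A] [Coalgebra.IsCocomm R A]

/-- The inclusion of the constant functions, for convolution. -/
def dualToEnd : WithConv (A →ₗ[R] R) →+* WithConv (A →ₗ[R] A) where
  toFun f := toConv ((Algebra.ofId R A).toLinearMap ∘ₗ f.ofConv)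
  map_one' := by
    apply WithConv.ext
    exact LinearMap.ext fun a => by simp
  map_mul' f g := congrArg toConv (LinearMap.algHom_comp_convMul_distrib (Algebra.ofId R A) f g)
  map_zero' := by
    apply WithConv.ext
    exact LinearMap.ext fun a => by simp
  map_add' f g := by
    apply WithConv.ext
    exact LinearMap.ext fun a => by simp

/-- Translation by a point. -/
def transl (g : WithConv (A →ₐ[R] R)) : A →ₐ[R] A :=
  (toConv (AlgHom.id R A) * postH (Algebra.ofId R A) g).ofConv

theorem comp_transl {C : Type u} [CommRing C] [Algebra R C] (φ : A →ₐ[R] C) (g : WithConv (A →ₐ[R] R)) :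
    φ.comp (transl g) = (toConv φ * postH (Algebra.ofId R C) g).ofConv := by
  have h := map_mul (postH φ) (toConv (AlgHom.id R A)) (postH (Algebra.ofId R A) g)
  have e : postH φ (postH (Algebra.ofId R A) g) = postH (Algebra.ofId R C) g := by
    apply WithConv.ext
    exact AlgHom.ext fun a => φ.commutes _
  rw [e] at h
  exact congrArg WithConv.ofConv h

theorem transl_transl (g h : WithConv (A →ₐ[R] R)) : (transl h).comp (transl g) = transl (h * g) := by
  rw [comp_transl]
  show (toConv (AlgHom.id R A) * postH (Algebra.ofId R A) h * postH (Algebra.ofId R A) g).ofConv = _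
  rw [mul_assoc, ← map_mul]
  rfl

theorem transl_one : transl (1 : WithConv (A →ₐ[R] R)) = AlgHom.id R A := by
  rw [transl, map_one, mul_one]

/-- Deligne's theorem, free case. -/
theorem point_pow_finrank [Module.Finite R A] [Module.Free R A] (g : WithConv (A →ₐ[R] R)) :
    g ^ Module.finrank R A = 1 := by
  classical
  rcases subsingleton_or_nontrivial R with hR | hR
  · apply WithConv.ext
    exact AlgHom.ext fun a => Subsingleton.elim _ _
  let D := WithConv (A →ₗ[R] R)
  let E := WithConv (A →ₗ[R] A)
  letI : Algebra D E := (dualToEnd (R := R) (A := A)).toAlgebra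
  let e := Module.finBasis R A
  let co : E ≃ₗ[D] (Fin (Module.finrank R A) → D) :=
    { toFun := fun f i => toConv (e.coord i ∘ₗ f.ofConv)
      invFun := fun v => toConv (∑ i, (LinearMap.toSpanSingleton R A (e i)) ∘ₗ (v i).ofConv)
      map_add' := fun f f' => funext fun i => by
        apply WithConv.ext
        refine LinearMap.ext fun a => ?_
        show e.coord i (f.ofConv a + f'.ofConv a) = e.coord i (f.ofConv a) + e.coord i (f'.ofConv a)
        exact map_add _ _ _
      map_smul' := fun d f => funext fun i => by
        apply WithConv.ext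
        refine LinearMap.ext fun a => ?_
        show e.coord i ((dualToEnd d * f).ofConv a) = (d * toConv (e.coord i ∘ₗ f.ofConv)).ofConv a
        rw [LinearMap.convMul_apply, LinearMap.convMul_apply, ← (ℛ R a).eq]
        simp only [map_sum, TensorProduct.map_tmul, LinearMap.mul'_apply]
        refine Finset.sum_congr rfl fun j _ => ?_
        simp [dualToEnd, Algebra.algebraMap_eq_smul_one, smul_mul_assoc, map_smul]
      left_inv := fun f => by
        apply WithConv.ext
        refine LinearMap.ext fun a => ?_
        simp [e.sum_repr]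
      right_inv := fun v => funext fun i => by
        apply WithConv.ext
        refine LinearMap.ext fun a => ?_
        simp [Finsupp.single_apply, eq_comm] }
  let B : Module.Basis (Fin (Module.finrank R A)) D E := Module.Basis.ofEquivFun co
  let τ : A ≃ₐ[R] A := AlgEquiv.ofAlgHom (transl g) (transl g⁻¹)
    (by rw [transl_transl, mul_inv_cancel, transl_one]) (by rw [transl_transl, inv_mul_cancel, transl_one])
  let Φ : E ≃ₐ[D] E :=
    { toFun := fun f => toConv (τ.toLinearMap ∘ₗ f.ofConv)
      invFun := fun f => toConv (τ.symm.toLinearMap ∘ₗ f.ofConv)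
      left_inv := fun f => by
        apply WithConv.ext
        exact LinearMap.ext fun a => τ.symm_apply_apply _
      right_inv := fun f => by
        apply WithConv.ext
        exact LinearMap.ext fun a => τ.apply_symm_apply _
      map_mul' := fun f f' => congrArg toConv (LinearMap.algHom_comp_convMul_distrib τ.toAlgHom f f')
      map_add' := fun f f' => by
        apply WithConv.ext
        exact LinearMap.ext fun a => map_add τ _ _
      commutes' := fun d => by
        apply WithConv.ext
        exact LinearMap.ext fun a => τ.commutes _ }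
  let δ : E := toConv LinearMap.id
  let gl : D := toConv g.ofConv.toLinearMap
  have hΦ : Φ δ = algebraMap D E gl * δ := by
    rw [mul_comm]
    show toConv ((transl g).toLinearMap ∘ₗ LinearMap.id) = _
    rw [LinearMap.comp_id]
    exact AlgHom.toLinearMap_convMul _ _
  have hN := Algebra.norm_eq_of_algEquiv Φ δ
  rw [hΦ, map_mul, Algebra.norm_algebraMap_of_basis B, Fintype.card_fin] at hN
  have hδ : IsUnit δ := IsUnit.of_mul_eq_one _ LinearMap.id_mul_antipode
  have h1 : gl ^ Module.finrank R A = 1 :=
    (hδ.map (Algebra.norm D)).mul_right_cancel (hN.trans (one_mul _).symm)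
  apply WithConv.ofConv_injective
  apply AlgHom.toLinearMap_injective
  apply WithConv.toConv_injective
  rw [AlgHom.toLinearMap_convPow, AlgHom.toLinearMap_convOne]
  exact h1

end free

variable {R : Type u} [CommRing R] {A : Type u} [CommRing A] [HopfAlgebra R A]
  [Module.Finite R A] [Module.Projective R A] {p : ℕ} [hpF : Fact p.Prime]

/-- A group scheme of rank `p` is killed by `p`. -/
theorem killed (hrk : ∀ q : PrimeSpectrum R, Module.rankAtStalk A q = p) : Killed R A p := by
  haveI := isCocomm hrk
  apply WithConv.ext
  refine AlgHom.ext fun a => ?_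
  rw [← sub_eq_zero]
  set x := (toConv (AlgHom.id R A) ^ p : WithConv (A →ₐ[R] A)).ofConv a -
    (1 : WithConv (A →ₐ[R] A)).ofConv a with hx
  by_contra hne
  have hann : (Ideal.torsionOf A A x) ≠ ⊤ := fun h => hne ((Ideal.torsionOf_eq_top_iff (R := A) x).1 h)
  obtain ⟨𝔪, h𝔪, hle⟩ := Ideal.exists_le_maximal _ hann
  let S := Localization.AtPrime 𝔪
  obtain ⟨_, hS⟩ := finrank_baseChange_local hrk S
  let f : A →ₐ[R] S := IsScalarTower.toAlgHom R A S
  let F : S ⊗[R] A →ₐ[S] S := Algebra.TensorProduct.lift (AlgHom.id S S) f fun _ _ => Commute.all _ _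
  have hF := point_pow_finrank (R := S) (A := S ⊗[R] A) (toConv F)
  rw [hS] at hF
  have h1 := AlgHom.toLinearMap_convPow (toConv F) p
  rw [hF, AlgHom.toLinearMap_convOne] at h1
  have h2 := congrArg (res (R := R) (A := A)) h1
  rw [res_one, res_pow] at h2
  have e : res (R := R) (A := A) (toConv F.toLinearMap : WithConv (S ⊗[R] A →ₗ[S] S)) = toConv f.toLinearMap := by
    apply WithConv.ext
    refine LinearMap.ext fun c => ?_
    rw [res_apply]
    simp [F]
  rw [WithConv.ofConv_toConv, e] at h2
  have h3 := AlgHom.toLinearMap_convPow (toConv f) p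
  rw [WithConv.ofConv_toConv, ← h2, ← AlgHom.toLinearMap_convOne] at h3
  have h4 : (toConv f ^ p : WithConv (A →ₐ[R] S)) = 1 :=
    WithConv.ofConv_injective (AlgHom.toLinearMap_injective (WithConv.toConv_injective h3))
  have h5 : f x = 0 := by
    have hp' := congrArg (fun F : WithConv (A →ₐ[R] S) => F.ofConv a) (map_pow (postH f) (toConv (AlgHom.id R A)) p)
    have h1' := congrArg (fun F : WithConv (A →ₐ[R] S) => F.ofConv a) (map_one (postH (R := R) (A := A) f))
    simp only [postH, MonoidHom.coe_mk, OneHom.coe_mk, WithConv.ofConv_toConv, AlgHom.comp_apply] at hp' h1'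
    rw [hx, map_sub, sub_eq_zero, hp', h1']
    exact congrArg (fun F : WithConv (A →ₐ[R] S) => F.ofConv a) h4
  rw [show f x = algebraMap A S x from rfl, IsLocalization.map_eq_zero_iff 𝔪.primeCompl S] at h5
  obtain ⟨⟨t, ht⟩, htx⟩ := h5
  exact ht (hle ((Ideal.mem_torsionOf_iff x t).2 htx))

end Groth.L15.OT
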