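import Mathlib.RingTheory.Spectrum.Prime.FreeLocus
import Mathlib.RingTheory.LocalRing.Module
import Mathlib.RingTheory.Localization.AtPrime.Basic
import Mathlib.LinearAlgebra.Dual.Lemmas

/-!
Generalities on modules of rank one and ranks of duals.
-/

set_option autoImplicit false

noncomputable section

universe u

open TensorProduct

namespace Groth.L15.OT

variable {R : Type u} [CommRing R]

/-- Equalities may be checked after scaling outside every maximal ideal. -/
theorem eq_of_locally {M : Type u} [AddCommGroup M] [Module R M] {a b : M}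
    (h : ∀ 𝔪 : Ideal R, 𝔪.IsMaximal → ∃ s, s ∉ 𝔪 ∧ s • a = s • b) : a = b := by
  rw [← sub_eq_zero]
  by_contra hne
  obtain ⟨𝔪, h𝔪, hle⟩ := Ideal.exists_le_maximal (Ideal.torsionOf R M (a - b))
    fun hc => hne ((Ideal.torsionOf_eq_top_iff (R := R) (a - b)).1 hc)
  obtain ⟨s, hs, hsab⟩ := h 𝔪 h𝔪
  exact hs (hle ((Ideal.mem_torsionOf_iff _ _).2 (by rw [smul_sub, hsab, sub_self])))

variable {M : Type u} [AddCommGroup M] [Module R M] [Module.Finite R M] [Module.Projective R M]

/-- A module of rank one is locally cyclic. -/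
theorem exists_cyclic (hrk : ∀ q : PrimeSpectrum R, Module.rankAtStalk M q = 1) (𝔪 : Ideal R) [𝔪.IsPrime] :
    ∃ s, s ∉ 𝔪 ∧ ∃ x : M, ∀ m : M, ∃ r : R, s • m = r • x := by
  classical
  let S := Localization 𝔪.primeCompl
  let L := LocalizedModule 𝔪.primeCompl M
  haveI : IsLocalRing S := inferInstanceAs (IsLocalRing (Localization.AtPrime 𝔪))
  haveI : Module.Free S L := Module.free_of_flat_of_isLocalRing
  have h1 : Module.finrank S L = 1 := hrk ⟨𝔪, inferInstance⟩
  let e := Module.finBasisOfFinrankEq S L h1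
  obtain ⟨⟨x, s₀⟩, hx⟩ := IsLocalizedModule.mk'_surjective 𝔪.primeCompl
    (LocalizedModule.mkLinearMap 𝔪.primeCompl M) (e 0)
  have hgen : ∀ m : M, ∃ s, s ∉ 𝔪 ∧ ∃ r : R, s • m = r • x := by
    intro m
    have hm := e.sum_repr (LocalizedModule.mkLinearMap 𝔪.primeCompl M m)
    rw [Fin.sum_univ_one, ← hx] at hm
    obtain ⟨⟨a, t⟩, hat⟩ := IsLocalization.mk'_surjective 𝔪.primeCompl (e.repr (LocalizedModule.mkLinearMap 𝔪.primeCompl M m) 0)
    have hat' : IsLocalization.mk' S a t = e.repr (LocalizedModule.mkLinearMap 𝔪.primeCompl M m) 0 := hat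
    rw [← hat', Function.uncurry_apply_pair, IsLocalizedModule.mk'_smul_mk',
      IsLocalizedModule.mk'_eq_iff] at hm
    have h2 : (LocalizedModule.mkLinearMap 𝔪.primeCompl M) (a • x) =
        (LocalizedModule.mkLinearMap 𝔪.primeCompl M) ((t * s₀ : 𝔪.primeCompl) • m) := by
      rw [hm]
      exact (LinearMap.map_smul_of_tower _ _ _).symm
    obtain ⟨c, hc⟩ := (IsLocalizedModule.eq_iff_exists 𝔪.primeCompl
      (LocalizedModule.mkLinearMap 𝔪.primeCompl M)).1 h2
    simp only [Submonoid.smul_def, smul_smul] at hc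
    exact ⟨(c : R) * ((t * s₀ : 𝔪.primeCompl) : R), (c * (t * s₀)).2, (c : R) * a, hc.symm⟩
  choose sf hsf rf hrf using hgen
  obtain ⟨n, g, hg⟩ := Module.Finite.exists_fin (R := R) (M := M)
  refine ⟨∏ i, sf (g i), (‹𝔪.IsPrime›).prod_mem_iff.not.2 (by simp [hsf]), x, fun m => ?_⟩
  obtain ⟨c, rfl⟩ := (Submodule.mem_span_range_iff_exists_fun R).1
    (show m ∈ Submodule.span R (Set.range g) from hg ▸ Submodule.mem_top)
  refine ⟨∑ i, c i * ((∏ j ∈ Finset.univ.erase i, sf (g j)) * rf (g i)), ?_⟩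
  rw [Finset.smul_sum, Finset.sum_smul]
  refine Finset.sum_congr rfl fun i _ => ?_
  rw [← Finset.mul_prod_erase _ _ (Finset.mem_univ i), smul_comm, mul_comm (sf (g i)), mul_smul, hrf,
    smul_smul, smul_smul, mul_assoc]

/-- A module of rank one is faithful. -/
theorem faithful_of_rank (hrk : ∀ q : PrimeSpectrum R, Module.rankAtStalk M q = 1) {r : R}
    (hr : ∀ m : M, r • m = 0) : r = 0 := by
  refine eq_of_locally (R := R) (M := R) fun 𝔪 h𝔪 => ?_
  let S := Localization 𝔪.primeCompl
  let L := LocalizedModule 𝔪.primeCompl M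
  haveI : IsLocalRing S := inferInstanceAs (IsLocalRing (Localization.AtPrime 𝔪))
  haveI : Module.Free S L := Module.free_of_flat_of_isLocalRing
  have h1 : Module.finrank S L = 1 := hrk ⟨𝔪, inferInstance⟩
  let e := Module.finBasisOfFinrankEq S L h1
  obtain ⟨⟨x, s₀⟩, hx⟩ := IsLocalizedModule.mk'_surjective 𝔪.primeCompl
    (LocalizedModule.mkLinearMap 𝔪.primeCompl M) (e 0)
  have h0 : algebraMap R S r • e 0 = 0 := by
    rw [algebraMap_smul, ← hx, Function.uncurry_apply_pair, ← IsLocalizedModule.mk'_smul, hr,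
      IsLocalizedModule.mk'_zero]
  have h2 := congrArg (fun z => e.repr z 0) h0
  simp only [map_smul, Finsupp.smul_apply, Module.Basis.repr_self, Finsupp.single_eq_same, smul_eq_mul,
    mul_one, map_zero, Finsupp.zero_apply] at h2
  obtain ⟨⟨c, hc⟩, hcr⟩ := (IsLocalization.map_eq_zero_iff 𝔪.primeCompl S r).1 h2
  exact ⟨c, hc, by rw [smul_eq_mul, smul_zero]; exact hcr⟩

/-- The rank of the dual. -/
theorem rankAtStalk_dual (q : PrimeSpectrum R) :
    Module.rankAtStalk (Module.Dual R M) q = Module.rankAtStalk M q := by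
  classical
  obtain ⟨n, f, g, -, -, hfg⟩ := Module.Finite.exists_comp_eq_id_of_projective R M
  let fs : Fin n → Module.Dual R M := fun i => LinearMap.proj i ∘ₗ g
  let ms : Fin n → M := fun i => f (Pi.single i 1)
  have hframe : ∀ a : M, ∑ i, fs i a • ms i = a := by
    intro a
    conv_rhs => rw [← LinearMap.id_apply (R := R) a, ← hfg, LinearMap.comp_apply, pi_eq_sum_univ' (g a), map_sum]
    exact Finset.sum_congr rfl fun i _ => (map_smul f _ _).symm
  have hdual : ∀ φ : Module.Dual R M, ∑ i, φ (ms i) • fs i = φ := fun φ => LinearMap.ext fun a => by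
    conv_rhs => rw [← hframe a, map_sum]
    rw [LinearMap.sum_apply]
    exact Finset.sum_congr rfl fun i _ => by rw [LinearMap.smul_apply, map_smul, smul_eq_mul, smul_eq_mul, mul_comm]
  let S := Localization.AtPrime q.asIdeal
  haveI : Module.Free S (S ⊗[R] M) := Module.free_of_flat_of_isLocalRing
  let Φ : S ⊗[R] Module.Dual R M →ₗ[S] Module.Dual S (S ⊗[R] M) :=
    LinearMap.liftBaseChange S
      { toFun := fun φ => LinearMap.liftBaseChange S (Algebra.linearMap R S ∘ₗ φ)
        map_add' := fun φ ψ => by ext a; simp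
        map_smul' := fun r φ => by ext a; simp [Algebra.smul_def] }
  let Ψ : Module.Dual S (S ⊗[R] M) → S ⊗[R] Module.Dual R M := fun G => ∑ i, G (1 ⊗ₜ ms i) • ((1 : S) ⊗ₜ fs i)
  have h1 : ∀ z, Ψ (Φ z) = z := by
    intro z
    induction z using TensorProduct.induction_on with
    | zero => simp [Ψ]
    | tmul s φ =>
      simp only [Ψ, Φ, LinearMap.liftBaseChange_tmul, LinearMap.smul_apply, LinearMap.coe_mk,
        AddHom.coe_mk, one_smul, LinearMap.comp_apply, Algebra.linearMap_apply, smul_eq_mul]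
      conv_rhs => rw [← hdual φ, TensorProduct.tmul_sum]
      refine Finset.sum_congr rfl fun i _ => ?_
      rw [TensorProduct.tmul_smul, mul_comm, mul_smul, one_mul, algebraMap_smul, TensorProduct.smul_tmul' s, smul_eq_mul, mul_one]
    | add x y hx hy =>
      simp only [Ψ] at hx hy ⊢
      simp only [map_add, LinearMap.add_apply, add_smul, Finset.sum_add_distrib, hx, hy]
  have h2 : ∀ G, Φ (Ψ G) = G := by
    intro G
    refine TensorProduct.AlgebraTensorModule.ext fun s a => ?_
    simp only [Ψ, map_sum, map_smul, Φ, LinearMap.liftBaseChange_tmul, one_smul, LinearMap.coe_mk,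
      AddHom.coe_mk, LinearMap.sum_apply, LinearMap.smul_apply, LinearMap.comp_apply,
      Algebra.linearMap_apply, smul_eq_mul]
    conv_rhs => rw [← mul_one s, ← smul_eq_mul, ← TensorProduct.smul_tmul', map_smul, ← hframe a,
      TensorProduct.tmul_sum, map_sum, Finset.smul_sum]
    refine Finset.sum_congr rfl fun i _ => ?_
    rw [TensorProduct.tmul_smul, LinearMap.map_smul_of_tower]
    simp [Algebra.smul_def]
    ring
  let e : S ⊗[R] Module.Dual R M ≃ₗ[S] Module.Dual S (S ⊗[R] M) :=
    { Φ with invFun := Ψ, left_inv := h1, right_inv := h2 }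
  haveI : Module.Free S (S ⊗[R] Module.Dual R M) := Module.Free.of_equiv e.symm
  have hq : q = (⟨IsLocalRing.maximalIdeal S, inferInstance⟩ : PrimeSpectrum S).comap (algebraMap R S) :=
    PrimeSpectrum.ext (IsLocalization.AtPrime.comap_maximalIdeal S q.asIdeal).symm
  have r1 := Module.rankAtStalk_baseChange (R := R) (M := M) (S := S) ⟨IsLocalRing.maximalIdeal S, inferInstance⟩
  have r2 := Module.rankAtStalk_baseChange (R := R) (M := Module.Dual R M) (S := S) ⟨IsLocalRing.maximalIdeal S, inferInstance⟩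
  rw [Module.rankAtStalk_eq_finrank_of_free, ← hq] at r1 r2
  rw [← r1, ← r2]
  show Module.finrank S (S ⊗[R] Module.Dual R M) = Module.finrank S (S ⊗[R] M)
  rw [e.finrank_eq, ← (Module.Free.chooseBasis S (S ⊗[R] M)).toDualEquiv.finrank_eq]

end Groth.L15.OT
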