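import Groth.Agent.L15.OT.Eigen
import Groth.Agent.L15.OT.Line
import Groth.Prelude.Def_CartDual

/-!
The eigenspaces of the dual Hopf algebra and their pairing with those of the algebra.
-/

set_option autoImplicit false

noncomputable section

universe u

open TensorProduct
open WithConv Coalgebra

namespace Groth.L15.OT

variable {R : Type u} [CommRing R] {A : Type u} [CommRing A] [HopfAlgebra R A]
  [Module.Finite R A] [Module.Projective R A]

/-- The augmentation ideal of the dual pairs perfectly with that of the algebra. -/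
theorem bijective_restrict_aug :
    Function.Bijective (fun f : LinearMap.ker (Bialgebra.counitAlgHom R (CartDual.D R A)).toLinearMap =>
      ((CartDual.toDual R A) (f : CartDual.D R A)).comp
        (LinearMap.ker (Bialgebra.counitAlgHom R A).toLinearMap).subtype) := by
  let ε : A →ₐ[R] R := Bialgebra.counitAlgHom R A
  have hmem : ∀ a : A, a - algebraMap R A (ε a) ∈ LinearMap.ker ε.toLinearMap := fun a => by
    rw [LinearMap.mem_ker, AlgHom.toLinearMap_apply, map_sub, AlgHom.commutes]; simp
  have hone : ∀ f : LinearMap.ker (Bialgebra.counitAlgHom R (CartDual.D R A)).toLinearMap,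
      (f : CartDual.D R A).ofConv 1 = 0 := fun f => LinearMap.mem_ker.1 f.2
  constructor
  · intro f g h
    apply Subtype.ext
    apply WithConv.ext
    refine LinearMap.ext fun a => ?_
    have h1 : (f : CartDual.D R A).ofConv (a - algebraMap R A (ε a)) =
        (g : CartDual.D R A).ofConv (a - algebraMap R A (ε a)) :=
      LinearMap.congr_fun h (⟨_, hmem a⟩ : LinearMap.ker ε.toLinearMap)
    rwa [map_sub, map_sub, Algebra.algebraMap_eq_smul_one, map_smul, map_smul, hone, hone, smul_zero,
      sub_zero, sub_zero] at h1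
  · intro φ
    let P : A →ₗ[R] LinearMap.ker ε.toLinearMap :=
      (LinearMap.id - Algebra.linearMap R A ∘ₗ ε.toLinearMap).codRestrict _ hmem
    refine ⟨⟨toConv (φ ∘ₗ P), ?_⟩, ?_⟩
    · rw [LinearMap.mem_ker]
      show φ (P 1) = 0
      rw [show P 1 = 0 from Subtype.ext (show (1 : A) - algebraMap R A (ε 1) = 0 by rw [map_one, map_one, sub_self])]
      exact map_zero φ
    · refine LinearMap.ext fun a => ?_
      show φ (P a) = φ a
      congr 1
      have ha : ε (a : A) = 0 := LinearMap.mem_ker.1 a.2
      exact Subtype.ext (show (a : A) - algebraMap R A (ε a) = a by rw [ha, map_zero, sub_zero])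

variable [Coalgebra.IsCocomm R A]

theorem counit_dual (φ : CartDual.D R A) :
    Bialgebra.counitAlgHom R (CartDual.D R A) φ = φ.ofConv 1 := rfl

/-- The power maps of the dual are the transposes. -/
theorem powConv_dual (n : ℕ) (φ : CartDual.D R A) (a : A) :
    (SGA3b.powConv R (CartDual.D R A) n φ).ofConv a = φ.ofConv (SGA3b.powConv R A n a) := by
  induction n generalizing φ a with
  | zero =>
    rw [powConv_zero, powConv_zero, counit_dual, Algebra.algebraMap_eq_smul_one,
      Algebra.algebraMap_eq_smul_one, WithConv.ofConv_smul, LinearMap.smul_apply, map_smul,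
      LinearMap.convOne_apply, Bialgebra.counitAlgHom_apply]
    simp [smul_eq_mul, mul_comm]
  | succ n ih =>
    unfold SGA3b.powConv at ih ⊢
    rw [pow_succ, pow_succ, AlgHom.convMul_apply, AlgHom.convMul_apply, ← (ℛ R φ).eq, ← (ℛ R a).eq]
    simp only [map_sum, Algebra.TensorProduct.lift_tmul, WithConv.ofConv_toConv, AlgHom.id_apply]
    have key : ∀ j, φ.ofConv ((toConv (AlgHom.id R A) ^ n).ofConv ((ℛ R a).left j) * (ℛ R a).right j) =
        ∑ i ∈ (ℛ R φ).index, ((ℛ R φ).left i).ofConv ((toConv (AlgHom.id R A) ^ n).ofConv ((ℛ R a).left j)) *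
          ((ℛ R φ).right i).ofConv ((ℛ R a).right j) := by
      intro j
      have h := (CartDual.ev₂_coalgebra_comul_tmul R A φ
        ((toConv (AlgHom.id R A) ^ n).ofConv ((ℛ R a).left j)) ((ℛ R a).right j)).symm
      rw [← (ℛ R φ).eq, map_sum, LinearMap.sum_apply] at h
      simp only [CartDual.ev₂_tmul, CartDual.coe_apply] at h
      exact h
    simp only [key]
    rw [WithConv.ofConv_sum, LinearMap.sum_apply, Finset.sum_comm]
    refine Finset.sum_congr rfl fun i _ => ?_
    rw [LinearMap.convMul_apply, ← (ℛ R a).eq, map_sum, map_sum]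
    exact Finset.sum_congr rfl fun j _ => by rw [TensorProduct.map_tmul, LinearMap.mul'_apply, ih]

variable {p : ℕ} [hpF : Fact p.Prime] {u : R} {χ : (ZMod p)ˣ →* Rˣ}

omit hpF in
theorem killed_dual (hp : Killed R A p) : Killed R (CartDual.D R A) p := by
  apply WithConv.ext
  refine AlgHom.ext fun φ => ?_
  show SGA3b.powConv R (CartDual.D R A) p φ = SGA3b.powConv R (CartDual.D R A) 0 φ
  apply WithConv.ext
  refine LinearMap.ext fun a => ?_
  rw [powConv_dual, powConv_dual, hp.powConv_mod, Nat.mod_self]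

omit hpF in
theorem rankAtStalk_D (hrk : ∀ q : PrimeSpectrum R, Module.rankAtStalk A q = p) (q : PrimeSpectrum R) :
    Module.rankAtStalk (CartDual.D R A) q = p := by
  rw [Module.rankAtStalk_eq_of_equiv (CartDual.toDual R A), rankAtStalk_dual, hrk]

/-- Eigenspaces for different characters are orthogonal. -/
theorem dual_apply_eq_zero (h : Chi p u χ) {i j : ℕ} (hij : i % (p - 1) ≠ j % (p - 1)) {φ : CartDual.D R A}
    (hφ : φ ∈ OortTate.eigenAug R (CartDual.D R A) p χ i) {a : A} (ha : a ∈ OortTate.eigenAug R A p χ j) :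
    φ.ofConv a = 0 := by
  have hm : ∀ m : (ZMod p)ˣ, (χ m : R) ^ i * φ.ofConv a = (χ m : R) ^ j * φ.ofConv a := by
    intro m
    have h1 := powConv_dual (m : ZMod p).val φ a
    rw [(mem_eigenAug.1 hφ).2 m, (mem_eigenAug.1 ha).2 m, WithConv.ofConv_smul, LinearMap.smul_apply,
      map_smul, smul_eq_mul, smul_eq_mul] at h1
    exact h1
  have h0 : (u * ∑ m : (ZMod p)ˣ, (χ m⁻¹ : R) ^ i * (χ m : R) ^ i) * φ.ofConv a = 0 := by
    have h1 : ∀ m : (ZMod p)ˣ, (χ m⁻¹ : R) ^ i * (χ m : R) ^ i * φ.ofConv a =
        (χ m⁻¹ : R) ^ i * (χ m : R) ^ j * φ.ofConv a := fun m => by rw [mul_assoc, hm, ← mul_assoc]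
    rw [mul_assoc, Finset.sum_mul, Finset.sum_congr rfl fun m _ => h1 m, ← Finset.sum_mul,
      sum_chi_eq_zero h hij, zero_mul, mul_zero]
  rwa [sum_chi_self h rfl, one_mul] at h0

theorem pE_powConv (h : Chi p u χ) (hp : Killed R A p) (i : ℕ) (m : (ZMod p)ˣ) (a : A) :
    pE R p u χ A i (SGA3b.powConv R A (m : ZMod p).val a) = (χ m : R) ^ i • pE R p u χ A i a := by
  rw [pE_apply, pE_apply, counit_powConv]
  set b := a - algebraMap R A (Bialgebra.counitAlgHom R A a) with hb
  have e : SGA3b.powConv R A (m : ZMod p).val a - algebraMap R A (Bialgebra.counitAlgHom R A a) =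
      SGA3b.powConv R A (m : ZMod p).val b := by
    rw [hb, map_sub, AlgHom.commutes]
  rw [e, proj_apply, proj_apply, smul_comm ((χ m : R) ^ i) u, Finset.smul_sum (r := (χ m : R) ^ i)]
  congr 1
  refine Fintype.sum_equiv (Equiv.mulLeft m) _ _ fun k => ?_
  rw [Equiv.coe_mulLeft, powConv_units_mul hp, mul_comm k m, smul_smul]
  congr 1
  rw [← mul_pow, ← Units.val_mul, ← map_mul, mul_inv_rev, mul_left_comm, mul_inv_cancel, mul_one]

/-- Extending a functional on an eigenspace to an eigenvector of the dual. -/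
theorem extend_mem (h : Chi p u χ) (hp : Killed R A p) (i : ℕ)
    (g : OortTate.eigenAug R A p χ i →ₗ[R] R) :
    toConv (g ∘ₗ prE R p u χ A hp i) ∈ OortTate.eigenAug R (CartDual.D R A) p χ i := by
  refine mem_eigenAug.2 ⟨?_, fun m => ?_⟩
  · rw [counit_dual]
    show g (prE R p u χ A hp i 1) = 0
    rw [show prE R p u χ A hp i 1 = 0 from Subtype.ext (show pE R p u χ A i 1 = 0 by
      rw [pE_apply, map_one (Bialgebra.counitAlgHom R A), map_one, sub_self, map_zero])]
    exact map_zero g
  · apply WithConv.ext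
    refine LinearMap.ext fun a => ?_
    rw [powConv_dual, WithConv.ofConv_smul, LinearMap.smul_apply]
    show g (prE R p u χ A hp i (SGA3b.powConv R A (m : ZMod p).val a)) = _ • g (prE R p u χ A hp i a)
    rw [← map_smul]
    exact congrArg g (Subtype.ext (pE_powConv h hp i m a))

/-- A dual eigenvector is determined by its values on the eigenspace. -/
theorem dual_eq_zero (h : Chi p u χ) (hp : Killed R A p) {i : ℕ} {φ : CartDual.D R A}
    (hφ : φ ∈ OortTate.eigenAug R (CartDual.D R A) p χ i)
    (h0 : ∀ a ∈ OortTate.eigenAug R A p χ i, φ.ofConv a = 0) : φ = 0 := by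
  apply WithConv.ext
  refine LinearMap.ext fun a => ?_
  have h1 : φ.ofConv 1 = 0 := (mem_eigenAug.1 hφ).1
  rw [← sum_pE h a, map_add, map_sum, Algebra.algebraMap_eq_smul_one, map_smul, h1, smul_zero, zero_add]
  refine Finset.sum_eq_zero fun j _ => ?_
  by_cases hij : i % (p - 1) = j % (p - 1)
  · exact h0 _ (by rw [← eigenAug_mod, hij, eigenAug_mod]; exact pE_mem hp j a)
  · exact dual_apply_eq_zero h hij hφ (pE_mem hp j a)

/-- The eigenspaces pair perfectly. -/
theorem bijective_restrict (h : Chi p u χ) (hp : Killed R A p) (i : ℕ) :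
    Function.Bijective (fun f : OortTate.eigenAug R (CartDual.D R A) p χ i =>
      ((CartDual.toDual R A) (f : CartDual.D R A)).comp (OortTate.eigenAug R A p χ i).subtype) := by
  constructor
  · intro f g hfg
    apply Subtype.ext
    rw [← sub_eq_zero]
    refine dual_eq_zero h hp (Submodule.sub_mem _ f.2 g.2) fun a ha => ?_
    show ((f : CartDual.D R A).ofConv - (g : CartDual.D R A).ofConv) a = 0
    rw [LinearMap.sub_apply, sub_eq_zero]
    exact LinearMap.congr_fun hfg ⟨a, ha⟩
  · intro g
    refine ⟨⟨_, extend_mem h hp i g⟩, LinearMap.ext fun a => ?_⟩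
    show g (prE R p u χ A hp i a) = g a
    rw [show prE R p u χ A hp i a = a from LinearMap.congr_fun (prE_subtype h hp i) a]

end Groth.L15.OT
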