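import Groth.Agent.L15.OT.Basic
import Mathlib.RingTheory.IntegralDomain
import Mathlib.FieldTheory.Finite.Basic
import Mathlib.Algebra.Module.Projective
import Mathlib.RingTheory.Finiteness.Basic
import Mathlib.Tactic.LinearCombination

/-!
The eigenspace decomposition of the augmentation ideal of a Hopf algebra killed by `p`.
-/

set_option autoImplicit false

noncomputable section

universe u

open TensorProduct
open WithConv Coalgebra

namespace Groth.L15.OT

variable {R : Type u} [CommRing R] {p : ℕ} [hpF : Fact p.Prime] {u : R} {χ : (ZMod p)ˣ →* Rˣ}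

/-- The data of the averaging idempotents. -/
structure Chi (p : ℕ) [Fact p.Prime] (u : R) (χ : (ZMod p)ˣ →* Rˣ) : Prop where
  hu : u * ((p - 1 : ℕ) : R) = 1
  hχ : ∀ m : (ZMod p)ˣ, m ≠ 1 → IsUnit ((χ m : R) - 1)

/-- The value of a character power, multiplicatively. -/
theorem chi_pow (χ : (ZMod p)ˣ →* Rˣ) (m : (ZMod p)ˣ) (i : ℕ) : ((χ m : R)) ^ i = (χ (m ^ i) : R) := by
  rw [map_pow, Units.val_pow_eq_pow_val]

theorem chi_pow_period (χ : (ZMod p)ˣ →* Rˣ) (m : (ZMod p)ˣ) : ((χ m : R)) ^ (p - 1) = 1 := by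
  rw [chi_pow, ZMod.units_pow_card_sub_one_eq_one, map_one, Units.val_one]

theorem chi_pow_mod (χ : (ZMod p)ˣ →* Rˣ) (m : (ZMod p)ˣ) (i : ℕ) :
    ((χ m : R)) ^ (i % (p - 1)) = ((χ m : R)) ^ i := by
  conv_rhs => rw [← Nat.mod_add_div i (p - 1), pow_add, pow_mul, chi_pow_period, one_pow, mul_one]

/-- Orthogonality of characters. -/
theorem sum_chi_eq_zero (h : Chi p u χ) {i j : ℕ} (hij : i % (p - 1) ≠ j % (p - 1)) :
    ∑ m : (ZMod p)ˣ, (χ m⁻¹ : R) ^ i * (χ m : R) ^ j = 0 := by
  obtain ⟨g, hg⟩ := IsCyclic.exists_ofOrder_eq_natCard (α := (ZMod p)ˣ)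
  have hord : orderOf g = p - 1 := by
    rw [hg, Nat.card_eq_fintype_card, ZMod.card_units]
  have hne : (g⁻¹) ^ i * g ^ j ≠ 1 := by
    intro hc
    rw [inv_pow, inv_mul_eq_one, pow_inj_mod, hord] at hc
    exact hij hc
  set T := ∑ m : (ZMod p)ˣ, (χ m⁻¹ : R) ^ i * (χ m : R) ^ j with hT
  have key : (χ ((g⁻¹) ^ i * g ^ j) : R) * T = T := by
    rw [hT, Finset.mul_sum]
    refine Fintype.sum_equiv (Equiv.mulLeft g) _ _ fun m => ?_
    simp only [Equiv.coe_mulLeft, map_mul, map_pow, mul_inv_rev, Units.val_mul,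
      Units.val_pow_eq_pow_val, mul_pow]
    ring
  have : ((χ ((g⁻¹) ^ i * g ^ j) : R) - 1) * T = 0 := by linear_combination key
  exact (h.hχ _ hne).mul_right_eq_zero.1 this

theorem sum_chi_self (h : Chi p u χ) {i j : ℕ} (hij : i % (p - 1) = j % (p - 1)) :
    u * ∑ m : (ZMod p)ˣ, (χ m⁻¹ : R) ^ i * (χ m : R) ^ j = 1 := by
  have : ∀ m : (ZMod p)ˣ, (χ m⁻¹ : R) ^ i * (χ m : R) ^ j = 1 := by
    intro m
    rw [← chi_pow_mod χ m j, ← hij, chi_pow_mod, ← mul_pow, ← Units.val_mul, ← map_mul,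
      inv_mul_cancel, map_one, Units.val_one, one_pow]
  rw [Finset.sum_congr rfl fun m _ => this m, Finset.sum_const, Finset.card_univ, ZMod.card_units,
    nsmul_one]
  exact h.hu

/-- The other orthogonality relation. -/
theorem sum_range_chi (h : Chi p u χ) {m : (ZMod p)ˣ} (hm : m ≠ 1) :
    ∑ i ∈ Finset.range (p - 1), (χ m : R) ^ i = 0 := by
  refine (h.hχ m hm).mul_right_eq_zero.1 ?_
  rw [mul_geom_sum, chi_pow_period, sub_self]

variable {A : Type u} [CommRing A] [HopfAlgebra R A]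

theorem mem_eigenAug {i : ℕ} {a : A} :
    a ∈ OortTate.eigenAug R A p χ i ↔ Bialgebra.counitAlgHom R A a = 0 ∧
      ∀ m : (ZMod p)ˣ, SGA3b.powConv R A (m : ZMod p).val a = ((χ m : R) ^ i) • a := by
  simp [OortTate.eigenAug, Submodule.mem_inf, Submodule.mem_iInf, Module.End.mem_eigenspace_iff]

theorem eigenAug_mod (i : ℕ) :
    OortTate.eigenAug R A p χ (i % (p - 1)) = OortTate.eigenAug R A p χ i := by
  ext a
  simp only [mem_eigenAug, chi_pow_mod]

theorem proj_apply (i : ℕ) (a : A) :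
    OortTate.proj R A p u χ i a =
      u • ∑ m : (ZMod p)ˣ, ((χ m⁻¹ : R) ^ i) • SGA3b.powConv R A (m : ZMod p).val a := by
  simp [OortTate.proj]

theorem counit_proj (i : ℕ) {a : A} (ha : Bialgebra.counitAlgHom R A a = 0) :
    Bialgebra.counitAlgHom R A (OortTate.proj R A p u χ i a) = 0 := by
  simp only [proj_apply, map_smul, map_sum, counit_powConv, ha, smul_zero, Finset.sum_const_zero]

theorem powConv_units_mul (hp : Killed R A p) (m n : (ZMod p)ˣ) (a : A) :
    SGA3b.powConv R A (m : ZMod p).val (SGA3b.powConv R A (n : ZMod p).val a) =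
      SGA3b.powConv R A ((m * n : (ZMod p)ˣ) : ZMod p).val a := by
  rw [powConv_powConv, hp.powConv_mod, Units.val_mul, ZMod.val_mul]

theorem proj_mem (hp : Killed R A p) (i : ℕ) {a : A} (ha : Bialgebra.counitAlgHom R A a = 0) :
    OortTate.proj R A p u χ i a ∈ OortTate.eigenAug R A p χ i := by
  refine mem_eigenAug.2 ⟨counit_proj i ha, fun k => ?_⟩
  rw [proj_apply, map_smul, map_sum, smul_comm ((χ k : R) ^ i) u, Finset.smul_sum (r := (χ k : R) ^ i)]
  congr 1
  refine Fintype.sum_equiv (Equiv.mulLeft k) _ _ fun m => ?_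
  rw [map_smul, powConv_units_mul hp, smul_smul, Equiv.coe_mulLeft]
  congr 1
  rw [← mul_pow, ← Units.val_mul, ← map_mul, mul_inv_rev, mul_left_comm, mul_inv_cancel, mul_one]

theorem proj_of_mem (h : Chi p u χ) {i j : ℕ} {a : A} (ha : a ∈ OortTate.eigenAug R A p χ j) :
    OortTate.proj R A p u χ i a = if i % (p - 1) = j % (p - 1) then a else 0 := by
  rw [proj_apply, Finset.sum_congr rfl fun m _ => by rw [(mem_eigenAug.1 ha).2 m, smul_smul],
    ← Finset.sum_smul, smul_smul]
  split_ifs with hij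
  · rw [sum_chi_self h hij, one_smul]
  · rw [sum_chi_eq_zero h hij, mul_zero, zero_smul]

theorem sum_proj (h : Chi p u χ) (a : A) :
    ∑ i ∈ Finset.range (p - 1), OortTate.proj R A p u χ i a = a := by
  simp only [proj_apply, ← Finset.smul_sum]
  rw [Finset.sum_comm, Finset.sum_eq_single (1 : (ZMod p)ˣ)]
  · simp only [inv_one, map_one, Units.val_one, one_pow, one_smul, Finset.sum_const, Finset.card_range,
      ZMod.val_one, powConv_one]
    rw [← Nat.cast_smul_eq_nsmul R, smul_smul, h.hu, one_smul]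
  · intro m _ hm
    rw [← Finset.sum_smul, sum_range_chi h (inv_ne_one.2 hm), zero_smul]
  · simp

theorem mul_mem_eigenAug {i j : ℕ} {a b : A} (ha : a ∈ OortTate.eigenAug R A p χ i)
    (hb : b ∈ OortTate.eigenAug R A p χ j) : a * b ∈ OortTate.eigenAug R A p χ (i + j) := by
  refine mem_eigenAug.2 ⟨by rw [map_mul, (mem_eigenAug.1 ha).1, zero_mul], fun m => ?_⟩
  rw [map_mul, (mem_eigenAug.1 ha).2 m, (mem_eigenAug.1 hb).2 m, smul_mul_smul_comm, pow_add]

theorem pow_mem_eigenAug {x : A} (hx : x ∈ OortTate.eigenAug R A p χ 1) {t : ℕ} (ht : 1 ≤ t) :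
    x ^ t ∈ OortTate.eigenAug R A p χ t := by
  induction t, ht using Nat.le_induction with
  | base => simpa using hx
  | succ t _ ih => rw [pow_succ]; exact mul_mem_eigenAug ih hx

theorem prod_mem_eigenAug {t : ℕ} (f : Fin t → A) (hf : ∀ i, f i ∈ OortTate.eigenAug R A p χ 1)
    (ht : 1 ≤ t) : ∏ i, f i ∈ OortTate.eigenAug R A p χ t := by
  induction t, ht using Nat.le_induction with
  | base => simpa using hf 0
  | succ t _ ih =>
    rw [Fin.prod_univ_castSucc]
    exact mul_mem_eigenAug (ih _ fun i => hf _) (hf _)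

theorem submodule_pow_le (t : ℕ) (ht : 1 ≤ t) :
    OortTate.eigenAug R A p χ 1 ^ t ≤ OortTate.eigenAug R A p χ t := by
  induction t, ht using Nat.le_induction with
  | base => rw [pow_one]
  | succ t _ ih =>
    rw [pow_succ]
    exact Submodule.mul_le.2 fun a ha b hb => mul_mem_eigenAug (ih ha) hb

variable (R A p u χ) in
/-- The projection of `A` onto an eigenspace of the augmentation ideal, as an endomorphism. -/
def pE (i : ℕ) : A →ₗ[R] A :=
  OortTate.proj R A p u χ i ∘ₗ
    (LinearMap.id - Algebra.linearMap R A ∘ₗ (Bialgebra.counitAlgHom R A).toLinearMap)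

theorem pE_apply (i : ℕ) (a : A) : pE R p u χ A i a =
    OortTate.proj R A p u χ i (a - algebraMap R A (Bialgebra.counitAlgHom R A a)) := rfl

theorem pE_mem (hp : Killed R A p) (i : ℕ) (a : A) :
    pE R p u χ A i a ∈ OortTate.eigenAug R A p χ i := by
  rw [pE_apply]
  exact proj_mem hp i (by rw [map_sub, AlgHom.commutes]; simp)

theorem pE_of_mem (h : Chi p u χ) {i j : ℕ} {a : A} (ha : a ∈ OortTate.eigenAug R A p χ j) :
    pE R p u χ A i a = if i % (p - 1) = j % (p - 1) then a else 0 := by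
  rw [pE_apply, (mem_eigenAug.1 ha).1, map_zero, sub_zero, proj_of_mem h ha]

theorem pE_self (h : Chi p u χ) {i : ℕ} {a : A} (ha : a ∈ OortTate.eigenAug R A p χ i) :
    pE R p u χ A i a = a := by
  rw [pE_of_mem h ha, if_pos rfl]

theorem pE_of_lt (h : Chi p u χ) {i j : ℕ} {a : A} (hi : i < p - 1) (hj : j < p - 1) (hij : i ≠ j)
    (ha : a ∈ OortTate.eigenAug R A p χ j) : pE R p u χ A i a = 0 := by
  rw [pE_of_mem h ha, Nat.mod_eq_of_lt hi, Nat.mod_eq_of_lt hj, if_neg hij]

theorem sum_pE (h : Chi p u χ) (a : A) :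
    algebraMap R A (Bialgebra.counitAlgHom R A a) + ∑ i ∈ Finset.range (p - 1), pE R p u χ A i a = a := by
  simp only [pE_apply]
  rw [sum_proj h, add_sub_cancel]

variable (R A p u χ) in
/-- The projection of `A` onto an eigenspace. -/
def prE (hp : Killed R A p) (i : ℕ) : A →ₗ[R] OortTate.eigenAug R A p χ i :=
  (pE R p u χ A i).codRestrict _ (pE_mem hp i)

theorem prE_subtype (h : Chi p u χ) (hp : Killed R A p) (i : ℕ) :
    prE R p u χ A hp i ∘ₗ (OortTate.eigenAug R A p χ i).subtype = LinearMap.id :=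
  LinearMap.ext fun a => Subtype.ext (pE_self h a.2)

theorem projective_eigenAug [Module.Projective R A] (h : Chi p u χ) (hp : Killed R A p) (i : ℕ) :
    Module.Projective R (OortTate.eigenAug R A p χ i) :=
  Module.Projective.of_split _ _ (prE_subtype h hp i)

theorem finite_eigenAug [Module.Finite R A] (h : Chi p u χ) (hp : Killed R A p) (i : ℕ) :
    Module.Finite R (OortTate.eigenAug R A p χ i) :=
  Module.Finite.of_surjective (prE R p u χ A hp i) fun a =>
    ⟨a, LinearMap.congr_fun (prE_subtype h hp i) a⟩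

theorem iSup_eigenAug (h : Chi p u χ) (hp : Killed R A p) :
    (⨆ i : Fin (p - 1), OortTate.eigenAug R A p χ (i : ℕ)) =
      LinearMap.ker (Bialgebra.counitAlgHom R A).toLinearMap := by
  refine le_antisymm (iSup_le fun i a ha => (mem_eigenAug.1 ha).1) fun a ha => ?_
  rw [← sum_proj h a, Finset.sum_range]
  exact Submodule.sum_mem _ fun i _ =>
    Submodule.mem_iSup_of_mem i (proj_mem hp i (LinearMap.mem_ker.1 ha))

theorem iSupIndep_eigenAug (h : Chi p u χ) :
    iSupIndep fun i : Fin (p - 1) => OortTate.eigenAug R A p χ (i : ℕ) := by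
  refine iSupIndep_def.2 fun i => Submodule.disjoint_def.2 fun a ha ha' => ?_
  have hker : (⨆ (j : Fin (p - 1)) (_ : j ≠ i), OortTate.eigenAug R A p χ (j : ℕ)) ≤
      LinearMap.ker (OortTate.proj R A p u χ (i : ℕ)) := by
    refine iSup₂_le fun j hj b hb => ?_
    rw [LinearMap.mem_ker, proj_of_mem h hb, Nat.mod_eq_of_lt i.isLt, Nat.mod_eq_of_lt j.isLt,
      if_neg fun hc => hj (Fin.ext hc.symm)]
  have h0 := LinearMap.mem_ker.1 (hker ha')
  rwa [proj_of_mem h ha, if_pos rfl] at h0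

theorem eigenAug_eq_map (h : Chi p u χ) (hp : Killed R A p) (i : ℕ) :
    OortTate.eigenAug R A p χ i = Submodule.map (OortTate.proj R A p u χ i)
      (LinearMap.ker (Bialgebra.counitAlgHom R A).toLinearMap) := by
  refine le_antisymm ?_ ?_
  · intro a ha
    refine ⟨a, (mem_eigenAug.1 ha).1, ?_⟩
    rw [proj_of_mem h ha, if_pos rfl]
  · rintro _ ⟨a, ha, rfl⟩
    exact proj_mem hp i ha

end Groth.L15.OT
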