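import Groth.Agent.L15.OT.Eigen
import Groth.Agent.L25.OrderKills
import Mathlib.LinearAlgebra.Dual.Lemmas
import Mathlib.Data.Nat.Prime.Factorial
import Mathlib.LinearAlgebra.FiniteDimensional.Lemmas

/-!
Hopf algebras of dimension `p` over an algebraically closed field.
-/

set_option autoImplicit false

noncomputable section

universe u

open TensorProduct
open WithConv Coalgebra
open Groth.L25.OrderKills Groth.L25.LocalHopfRank

namespace Groth.L15.OT

variable {k : Type u} [Field k] [IsAlgClosed k] {A : Type u} [CommRing A] [HopfAlgebra k A]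
  [Module.Finite k A] {p : ℕ} [hpF : Fact p.Prime]

omit [IsAlgClosed k] hpF in
theorem killed_of_finrank (hA : Module.finrank k A = p) : Killed k A p :=
  hA ▸ convPow_id_finrank k A

omit [IsAlgClosed k] [Module.Finite k A] hpF in
theorem point_pow_eq_one (hp : Killed k A p) (g : WithConv (A →ₐ[k] k)) : g ^ p = 1 := by
  have := map_pow (postH g.ofConv) (toConv (AlgHom.id k A)) p
  rw [hp, map_one] at this
  exact this.symm

/-- The étale case: the points separate. -/
theorem exists_basis_of_point (hA : Module.finrank k A = p) {g : WithConv (A →ₐ[k] k)} (hg : g ≠ 1) :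
    ∃ e : ZMod p → A, (∀ a b : ZMod p, (g ^ b.val).ofConv (e a) = if b = a then 1 else 0) ∧
      ∀ a a' : A, (∀ b : ZMod p, (g ^ b.val).ofConv a = (g ^ b.val).ofConv a') → a = a' := by
  classical
  obtain ⟨E, hidem, hone, hzero, -⟩ := exists_idempotents (k := k) (A := A)
  have hord : orderOf g = p := orderOf_eq_prime (point_pow_eq_one (killed_of_finrank hA) g) hg
  have hinj : ∀ a b : ZMod p, g ^ b.val = g ^ a.val → b = a := by
    intro a b h
    rw [pow_inj_mod, hord, Nat.mod_eq_of_lt a.val_lt, Nat.mod_eq_of_lt b.val_lt] at h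
    exact ZMod.val_injective p h
  have hval : ∀ a b : ZMod p, (g ^ b.val).ofConv (E (g ^ a.val)) = if b = a then 1 else 0 := by
    intro a b
    split_ifs with h
    · rw [h, hone]
    · exact hzero _ _ fun hc => h (hinj a b hc)
  refine ⟨fun a => E (g ^ a.val), hval, ?_⟩
  have hli : LinearIndependent k fun a : ZMod p => E (g ^ a.val) := by
    rw [Fintype.linearIndependent_iff]
    intro c hc b
    have := congrArg (g ^ b.val).ofConv hc
    simpa [map_sum, map_smul, hval] using this
  have hspan := hli.span_eq_top_of_card_eq_finrank' (by rw [ZMod.card, hA])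
  intro a a' h
  obtain ⟨c, rfl⟩ := (Submodule.mem_span_range_iff_exists_fun k).1
    (show a ∈ Submodule.span k _ from hspan ▸ Submodule.mem_top)
  obtain ⟨c', rfl⟩ := (Submodule.mem_span_range_iff_exists_fun k).1
    (show a' ∈ Submodule.span k _ from hspan ▸ Submodule.mem_top)
  refine Finset.sum_congr rfl fun b _ => ?_
  have := h b
  simp only [map_sum, map_smul, hval, smul_eq_mul, mul_ite, mul_one, mul_zero, Finset.sum_ite_eq,
    Finset.mem_univ, if_true] at this
  rw [this]

/-- The connected case. -/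
theorem charP_of_points (hA : Module.finrank k A = p) (hG : ∀ g : WithConv (A →ₐ[k] k), g = 1) :
    CharP k p ∧ ∀ a : A, Bialgebra.counitAlgHom k A a = 0 → IsNilpotent a := by
  let ε : A →ₐ[k] k := Bialgebra.counitAlgHom k A
  have hnil : ∀ a : A, ε a = 0 → IsNilpotent a := by
    refine fun a ha => isNilpotent_of_forall_point (k := k) fun χ => ?_
    rw [show χ = ε from congrArg WithConv.ofConv ((hG (toConv χ)).trans toConv_counit.symm), ha]
  refine ⟨?_, hnil⟩
  have hloc : ∀ a : A, IsNilpotent (a - algebraMap k A (ε a)) := fun a =>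
    hnil _ (by rw [map_sub, AlgHom.commutes]; simp)
  obtain ⟨q, hq⟩ : ∃ q, ExpChar k q := ExpChar.exists k
  have hr : ∀ x : A, slice ε.toLinearMap (Bialgebra.comulAlgHom k A x) = x := by
    intro a
    rw [Bialgebra.comulAlgHom_apply, ← (ℛ k a).eq, map_sum]
    simp only [slice_tmul, AlgHom.toLinearMap_apply]
    have h := congrArg (TensorProduct.rid k A) (sum_tmul_counit_eq (ℛ k a))
    simp only [map_sum, TensorProduct.rid_tmul, one_smul] at h
    exact h
  have hl : ∀ (φ : A →ₗ[k] k) (x : A), ε (slice φ (Bialgebra.comulAlgHom k A x)) = φ x := by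
    intro φ a
    rw [Bialgebra.comulAlgHom_apply, ← (ℛ k a).eq, map_sum, map_sum]
    simp only [slice_tmul, map_smul, smul_eq_mul]
    conv_rhs => rw [← sum_counit_smul (ℛ k a), map_sum]
    refine Finset.sum_congr rfl fun i _ => ?_
    rw [map_smul, smul_eq_mul, mul_comm]
    rfl
  obtain ⟨r, hr'⟩ := exists_pow_eq_finrank (Bialgebra.comulAlgHom k A) ε hr hl hloc q
  rw [hA] at hr'
  cases hq with
  | zero => exact absurd (by rw [hr', one_pow]) hpF.out.ne_one
  | prime hq' =>
    have : q = p := ((Nat.Prime.pow_eq_iff hpF.out).1 hr'.symm).1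
    exact this ▸ inferInstance

omit [IsAlgClosed k] [Module.Finite k A] hpF in
/-- First order expansion of a convolution product with the identity. -/
theorem mul_id_sub_mem (f : A →ₐ[k] A) (hf : ∀ a, Bialgebra.counitAlgHom k A (f a) = Bialgebra.counitAlgHom k A a)
    (a : A) :
    (toConv f * toConv (AlgHom.id k A) : WithConv (A →ₐ[k] A)).ofConv a -
      (f a + a - algebraMap k A (Bialgebra.counitAlgHom k A a)) ∈
        RingHom.ker (Bialgebra.counitAlgHom k A) ^ 2 := by
  let ε : A →ₐ[k] k := Bialgebra.counitAlgHom k A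
  have key : (toConv f * toConv (AlgHom.id k A) : WithConv (A →ₐ[k] A)).ofConv a -
      (f a + a - algebraMap k A (ε a)) = ∑ i ∈ (ℛ k a).index,
        (f ((ℛ k a).left i) - algebraMap k A (ε ((ℛ k a).left i))) *
          ((ℛ k a).right i - algebraMap k A (ε ((ℛ k a).right i))) := by
    have h1 : ∑ i ∈ (ℛ k a).index, ε ((ℛ k a).left i) • (ℛ k a).right i = a := sum_counit_smul (ℛ k a)
    have h2 : ∑ i ∈ (ℛ k a).index, ε ((ℛ k a).right i) • (ℛ k a).left i = a := by
      have h := congrArg (TensorProduct.rid k A) (sum_tmul_counit_eq (ℛ k a))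
      simp only [map_sum, TensorProduct.rid_tmul, one_smul] at h
      exact h
    have h3 : ∑ i ∈ (ℛ k a).index, ε ((ℛ k a).left i) * ε ((ℛ k a).right i) = ε a := by
      conv_rhs => rw [← h1, map_sum]
      exact Finset.sum_congr rfl fun i _ => by rw [map_smul, smul_eq_mul]
    have h2' := congrArg f h2
    simp only [map_sum, map_smul] at h2'
    rw [AlgHom.convMul_apply, ← (ℛ k a).eq, map_sum]
    conv_lhs => rw [← h2', ← h3, map_sum]; arg 2; arg 1; arg 2; rw [← h1]
    simp only [Algebra.TensorProduct.lift_tmul, AlgHom.id_apply, Algebra.smul_def, sub_mul,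
      mul_sub, Finset.sum_sub_distrib, map_mul]
    simp only [mul_comm (algebraMap k A _) (f _)]
    abel
  rw [key]
  refine Ideal.sum_mem _ fun i _ => ?_
  rw [pow_two]
  refine Ideal.mul_mem_mul ?_ ?_ <;> rw [RingHom.mem_ker, map_sub, AlgHom.commutes] <;> simp [hf, ε]

omit [IsAlgClosed k] [Module.Finite k A] hpF in
theorem powConv_sub_mem {a : A} (ha : Bialgebra.counitAlgHom k A a = 0) (n : ℕ) :
    SGA3b.powConv k A n a - (n : k) • a ∈ RingHom.ker (Bialgebra.counitAlgHom k A) ^ 2 := by
  induction n with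
  | zero => simp [powConv_zero, ha]
  | succ n ih =>
    have h1 := mul_id_sub_mem (SGA3b.powConv k A n) (counit_powConv n) a
    rw [toConv_powConv, ← pow_succ, ha, map_zero, sub_zero] at h1
    have h2 : SGA3b.powConv k A (n + 1) a - ((n + 1 : ℕ) : k) • a =
        ((toConv (AlgHom.id k A) ^ (n + 1) : WithConv (A →ₐ[k] A)).ofConv a -
          (SGA3b.powConv k A n a + a)) + (SGA3b.powConv k A n a - (n : k) • a) := by
      rw [Nat.cast_succ, add_smul, one_smul]
      show (toConv (AlgHom.id k A) ^ (n + 1) : WithConv (A →ₐ[k] A)).ofConv a - _ = _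
      abel
    rw [h2]
    exact Ideal.add_mem _ h1 ih

/-- In the connected case there is a derivation at the origin with invertible divided powers. -/
theorem exists_derivation_of_points (hA : Module.finrank k A = p)
    (hG : ∀ g : WithConv (A →ₐ[k] k), g = 1) :
    ∃ (x : A) (φ : WithConv (A →ₗ[k] k)), Bialgebra.counitAlgHom k A x = 0 ∧
      RingHom.ker (Bialgebra.counitAlgHom k A) ^ p = ⊥ ∧
      (∀ s : ℕ, ∀ a ∈ RingHom.ker (Bialgebra.counitAlgHom k A) ^ (s + 1), (φ ^ s).ofConv a = 0) ∧
      ∀ t < p, (φ ^ t).ofConv (x ^ t) ≠ 0 := by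
  obtain ⟨hchar, hnil⟩ := charP_of_points hA hG
  haveI := hchar
  let ε : A →ₐ[k] k := Bialgebra.counitAlgHom k A
  let I : Ideal A := RingHom.ker ε
  haveI : Nontrivial A := RingHom.domain_nontrivial ε.toRingHom
  haveI : IsNoetherianRing A := isNoetherian_of_tower k inferInstance
  have hInil : IsNilpotent I := by
    obtain ⟨M, hM⟩ := IsNoetherianRing.isNilpotent_nilradical A
    exact ⟨M, le_bot_iff.1 ((Ideal.pow_right_mono (fun b hb => mem_nilradical.2 (hnil b hb)) M).trans
      (le_of_eq hM))⟩
  have hIp : I ^ p = ⊥ := hA ▸ pow_finrank_eq_bot I hInil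
  -- an element outside the square
  obtain ⟨x, hx, hx2⟩ : ∃ x ∈ I, x ∉ I ^ 2 := by
    by_contra hc
    push Not at hc
    have hle : I ≤ I ^ 2 := hc
    have hst : ∀ j, I ≤ I ^ (j + 1) := by
      intro j
      induction j with
      | zero => rw [pow_one]
      | succ j ih =>
        refine hle.trans ?_
        rw [pow_two, pow_succ _ (j + 1)]
        exact Ideal.mul_mono ih le_rfl
    have hI0 : I = ⊥ := le_bot_iff.1 <| (hst (p - 1)).trans <| le_of_eq <| by
      rw [Nat.sub_add_cancel hpF.out.one_le, hIp]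
    have hinj : Function.Injective ε := (RingHom.injective_iff_ker_eq_bot ε).2 hI0
    have := LinearMap.finrank_le_finrank_of_injective (f := ε.toLinearMap) hinj
    rw [hA, Module.finrank_self] at this
    exact absurd this (not_le.2 hpF.out.one_lt)
  -- a derivation at the origin
  have hx' : x ∉ (I ^ 2).restrictScalars k ⊔ Submodule.span k {(1 : A)} := by
    intro hm
    obtain ⟨y, hy, z, hz, rfl⟩ := Submodule.mem_sup.1 hm
    obtain ⟨c, rfl⟩ := Submodule.mem_span_singleton.1 hz
    have hy' : ε y = 0 := Ideal.pow_le_self two_ne_zero hy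
    rw [RingHom.mem_ker, map_add, hy', zero_add, map_smul, map_one, smul_eq_mul, mul_one] at hx
    rw [hx, zero_smul, add_zero] at hx2
    exact hx2 hy
  obtain ⟨φ₀, hφx, hφ0⟩ := Submodule.exists_dual_map_eq_bot_of_notMem hx' inferInstance
  let φ : A →ₗ[k] k := (φ₀ x)⁻¹ • φ₀
  have hφ : ∀ y ∈ (I ^ 2).restrictScalars k ⊔ Submodule.span k {(1 : A)}, φ y = 0 := fun y hy => by
    have : φ₀ y = 0 := (Submodule.mem_bot k).1 (hφ0 ▸ Submodule.mem_map_of_mem hy)
    simp [φ, this]
  have hφ1 : φ 1 = 0 := hφ 1 (Submodule.mem_sup_right (Submodule.mem_span_singleton_self _))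
  have hφxx : φ x = 1 := by simp [φ, inv_mul_cancel₀ hφx]
  have hder : ∀ a b, φ (a * b) = ε a * φ b + ε b * φ a := by
    intro a b
    have h := hφ ((a - algebraMap k A (ε a)) * (b - algebraMap k A (ε b))) (Submodule.mem_sup_left (by
      rw [Submodule.restrictScalars_mem, pow_two]
      refine Ideal.mul_mem_mul ?_ ?_ <;> simp [I, RingHom.mem_ker]))
    simp only [Algebra.algebraMap_eq_smul_one, sub_mul, mul_sub, smul_mul_assoc, mul_smul_comm,
      mul_one, one_mul, smul_smul, map_sub, map_smul, smul_eq_mul, hφ1, mul_zero, sub_zero] at h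
    linear_combination h
  -- the invariant derivation
  let L : A →ₗ[k] A := slice φ ∘ₗ (Bialgebra.comulAlgHom k A).toLinearMap
  have hL : ∀ a, L a = ∑ i ∈ (ℛ k a).index, φ ((ℛ k a).right i) • (ℛ k a).left i := fun a => by
    simp only [L, LinearMap.comp_apply, AlgHom.toLinearMap_apply, Bialgebra.comulAlgHom_apply]
    rw [← (ℛ k a).eq, map_sum]
    simp only [slice_tmul]
  have hεr : ∀ a, ∑ i ∈ (ℛ k a).index, ε ((ℛ k a).right i) • (ℛ k a).left i = a := fun a => by
    have h := congrArg (TensorProduct.rid k A) (sum_tmul_counit_eq (ℛ k a))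
    simp only [map_sum, TensorProduct.rid_tmul, one_smul] at h
    exact h
  have hLmul : ∀ a b, L (a * b) = L a * b + a * L b := by
    intro a b
    have hab : Bialgebra.comulAlgHom k A (a * b) = (∑ i ∈ (ℛ k a).index,
        (ℛ k a).left i ⊗ₜ[k] (ℛ k a).right i) * ∑ j ∈ (ℛ k b).index,
        (ℛ k b).left j ⊗ₜ[k] (ℛ k b).right j := by
      rw [(ℛ k a).eq, (ℛ k b).eq, map_mul]; rfl
    rw [hL a, hL b, show L (a * b) = slice φ (Bialgebra.comulAlgHom k A (a * b)) from rfl, hab,
      Finset.sum_mul_sum]
    simp only [map_sum, Algebra.TensorProduct.tmul_mul_tmul, slice_tmul, hder, add_smul,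
      Finset.sum_add_distrib]
    rw [add_comm]
    congr 1
    · conv_rhs => rw [← hεr b, Finset.sum_mul_sum]
      exact Finset.sum_congr rfl fun i _ => Finset.sum_congr rfl fun j _ => by
        rw [smul_mul_smul_comm, mul_comm]
    · conv_rhs => rw [← hεr a, Finset.sum_mul_sum]
      exact Finset.sum_congr rfl fun i _ => Finset.sum_congr rfl fun j _ => by
        rw [smul_mul_smul_comm]
  have hεL : ∀ a, ε (L a) = φ a := by
    intro a
    rw [hL, map_sum]
    conv_rhs => rw [← sum_counit_smul (ℛ k a), map_sum]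
    exact Finset.sum_congr rfl fun i _ => by rw [map_smul, map_smul, smul_eq_mul, smul_eq_mul, mul_comm]; rfl
  have hLI : ∀ s, ∀ a ∈ I ^ (s + 1), L a ∈ I ^ s := by
    intro s
    induction s with
    | zero => simp
    | succ s ih =>
      intro a ha
      rw [pow_succ] at ha
      induction ha using Submodule.mul_induction_on' with
      | mem_mul_mem b hb c hc =>
        rw [hLmul]
        refine Ideal.add_mem _ ?_ (Ideal.mul_mem_right _ _ hb)
        rw [pow_succ]
        exact Ideal.mul_mem_mul (ih b hb) hc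
      | add b _ c _ h1 h2 => rw [map_add]; exact Ideal.add_mem _ h1 h2
  have hLn : ∀ t j, ∀ a ∈ I ^ (t + j), L^[t] a ∈ I ^ j := by
    intro t
    induction t with
    | zero => simp
    | succ t ih =>
      intro j a ha
      rw [Function.iterate_succ_apply]
      exact ih j _ (hLI (t + j) a (by rwa [add_right_comm] at ha))
  have hφn : ∀ t a, (toConv φ ^ t : WithConv (A →ₗ[k] k)).ofConv a = ε (L^[t] a) := by
    intro t
    induction t with
    | zero =>
      intro a
      simp [ε]
    | succ t ih =>
      intro a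
      rw [pow_succ, Function.iterate_succ_apply, ← ih, LinearMap.convMul_apply, ← (ℛ k a).eq, hL,
        map_sum, map_sum, map_sum]
      exact Finset.sum_congr rfl fun i _ => by
        rw [TensorProduct.map_tmul, LinearMap.mul'_apply, map_smul, smul_eq_mul, mul_comm]
  have hfact : ∀ t, L^[t] (x ^ t) - algebraMap k A (t.factorial : k) ∈ I := by
    intro t
    induction t with
    | zero => simp
    | succ t ih =>
      have hD : ∀ s : ℕ, L (x ^ (s + 1)) = ((s + 1 : ℕ) : k) • (x ^ s * L x) := by
        intro s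
        induction s with
        | zero => simp
        | succ s ihs =>
          rw [pow_succ, hLmul, ihs, Nat.cast_succ (s + 1), add_smul, one_smul, smul_mul_assoc]
          ring_nf
      have hz : L x - 1 ∈ I := by
        simp [I, RingHom.mem_ker, hεL, hφxx]
      have hsplit : L (x ^ (t + 1)) = ((t + 1 : ℕ) : k) • x ^ t +
          ((t + 1 : ℕ) : k) • (x ^ t * (L x - 1)) := by
        rw [hD, ← smul_add, mul_sub, mul_one, add_sub_cancel]
      have hiter : ∀ (c : k) (a b : A), L^[t] (c • a + c • b) = c • L^[t] a + c • L^[t] b := by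
        intro c a b
        rw [← Module.End.coe_pow, map_add, map_smul, map_smul]
      have hrest : L^[t] (x ^ t * (L x - 1)) ∈ I := by
        have h1 : x ^ t * (L x - 1) ∈ I ^ (t + 1) := by
          rw [pow_succ]; exact Ideal.mul_mem_mul (Ideal.pow_mem_pow hx t) hz
        simpa using hLn t 1 _ h1
      rw [Function.iterate_succ_apply, hsplit, hiter, Nat.factorial_succ, Nat.cast_mul, map_mul]
      have h2 := Ideal.add_mem I (I.mul_mem_left (algebraMap k A ((t + 1 : ℕ) : k)) ih)
        (I.mul_mem_left (algebraMap k A ((t + 1 : ℕ) : k)) hrest)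
      convert h2 using 1
      simp only [Algebra.smul_def]
      ring
  refine ⟨x, toConv φ, hx, hIp, fun s a ha => ?_, fun t ht => ?_⟩
  · rw [hφn]
    simpa [I, RingHom.mem_ker] using hLn s 1 a ha
  · rw [hφn]
    have h := hfact t
    rw [RingHom.mem_ker, map_sub, AlgHom.commutes, sub_eq_zero] at h
    rw [show ε (L^[t] (x ^ t)) = (t.factorial : k) from h]
    exact fun hc => absurd ((Nat.Prime.dvd_factorial hpF.out).1 ((CharP.cast_eq_zero_iff k p _).1 hc)) (not_le.2 ht)

/-- A generator of the first eigenspace. -/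
theorem exists_gen {u : k} {χ : (ZMod p)ˣ →* kˣ} (h : Chi p u χ)
    (hχp : ∀ m : (ZMod p)ˣ, ((χ m : kˣ) : k) - (((m : ZMod p).val : ℕ) : k) ∈ Ideal.span ({(p : k)} : Set k))
    (hA : Module.finrank k A = p) :
    ∃ x ∈ OortTate.eigenAug k A p χ 1, x ^ (p - 1) ≠ 0 := by
  classical
  have hp : Killed k A p := killed_of_finrank hA
  by_cases hG : ∀ g : WithConv (A →ₐ[k] k), g = 1
  · obtain ⟨x, φ, hx, hIp, hφlow, hφt⟩ := exists_derivation_of_points hA hG
    haveI := (charP_of_points hA hG).1
    let I : Ideal A := RingHom.ker (Bialgebra.counitAlgHom k A)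
    have hχm : ∀ m : (ZMod p)ˣ, (χ m : k) = ((m : ZMod p).val : k) := fun m => by
      have := hχp m
      rwa [CharP.cast_eq_zero, Ideal.span_singleton_eq_bot.2 rfl, Ideal.mem_bot, sub_eq_zero] at this
    refine ⟨OortTate.proj k A p u χ 1 x, proj_mem hp 1 hx, fun h0 => ?_⟩
    have hd : OortTate.proj k A p u χ 1 x - x ∈ I ^ 2 := by
      have he : x = u • ∑ m : (ZMod p)ˣ, ((χ m⁻¹ : k) ^ 1) • (((m : ZMod p).val : k) • x) := by
        have hc : ∀ m : (ZMod p)ˣ, ((χ m⁻¹ : k) ^ 1) * ((m : ZMod p).val : k) = 1 := fun m => by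
          rw [pow_one, ← hχm, ← Units.val_mul, ← map_mul, inv_mul_cancel, map_one, Units.val_one]
        simp only [smul_smul, hc, one_smul, Finset.sum_const, Finset.card_univ, ZMod.card_units]
        rw [← Nat.cast_smul_eq_nsmul k, smul_smul, h.hu, one_smul]
      conv => arg 2; arg 2; rw [he]
      rw [proj_apply, ← smul_sub, ← Finset.sum_sub_distrib]
      refine Submodule.smul_of_tower_mem _ _ (Submodule.sum_mem _ fun m _ => ?_)
      rw [← smul_sub]
      exact Submodule.smul_of_tower_mem _ _ (powConv_sub_mem hx _)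
    have hpow : ∀ n, OortTate.proj k A p u χ 1 x ^ n - x ^ n ∈ I ^ (n + 1) := by
      intro n
      induction n with
      | zero => simp
      | succ n ih =>
        have h1 : OortTate.proj k A p u χ 1 x ∈ I :=
          RingHom.mem_ker.2 (counit_proj 1 hx)
        rw [show OortTate.proj k A p u χ 1 x ^ (n + 1) - x ^ (n + 1) =
          (OortTate.proj k A p u χ 1 x ^ n - x ^ n) * OortTate.proj k A p u χ 1 x +
            x ^ n * (OortTate.proj k A p u χ 1 x - x) by ring]
        refine Ideal.add_mem _ ?_ ?_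
        · rw [pow_succ]; exact Ideal.mul_mem_mul ih h1
        · rw [show n + 1 + 1 = n + 2 from rfl, pow_add]
          exact Ideal.mul_mem_mul (Ideal.pow_mem_pow hx n) hd
    have h1 := hpow (p - 1)
    rw [h0, Nat.sub_add_cancel hpF.out.one_le, show I ^ p = ⊥ from hIp, Ideal.mem_bot,
      zero_sub, neg_eq_zero] at h1
    exact hφt (p - 1) (Nat.sub_lt hpF.out.pos one_pos) (by rw [h1, map_zero])
  · push Not at hG
    obtain ⟨g, hg⟩ := hG
    obtain ⟨e, he, hext⟩ := exists_basis_of_point hA hg
    let F : ZMod p → k := fun b => if hb : IsUnit b then (χ hb.unit : k) else 0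
    let x := ∑ b, F b • e b
    have hx : ∀ b : ZMod p, (g ^ b.val).ofConv x = F b := fun b => by
      simp [x, map_sum, map_smul, he]
    have hF : ∀ (m : (ZMod p)ˣ) b, F ((m : ZMod p) * b) = χ m * F b := by
      intro m b
      by_cases hb : IsUnit b
      · have hmb : IsUnit ((m : ZMod p) * b) := m.isUnit.mul hb
        simp only [F, dif_pos hb, dif_pos hmb]
        rw [← Units.val_mul, ← map_mul]
        congr 2
        exact Units.ext (by simp)
      · have hmb : ¬ IsUnit ((m : ZMod p) * b) := fun hc => hb (isUnit_of_mul_isUnit_right hc)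
        simp only [F, dif_neg hb, dif_neg hmb, mul_zero]
    have hord := point_pow_eq_one hp g
    have hpw : ∀ n : ℕ, g ^ n = g ^ (n : ZMod p).val := fun n => by
      rw [ZMod.val_natCast]; exact pow_eq_pow_mod n hord
    refine ⟨x, mem_eigenAug.2 ⟨?_, fun m => hext _ _ fun b => ?_⟩, fun h0 => ?_⟩
    · have := hx 0
      rw [ZMod.val_zero, pow_zero, show F 0 = 0 from dif_neg (by simp)] at this
      rw [← this]
      rfl
    · rw [comp_powConv_apply, map_smul, pow_one, hx, smul_eq_mul, ← hF, WithConv.toConv_ofConv, ← pow_mul,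
        hpw, hx, Nat.cast_mul, ZMod.natCast_zmod_val, ZMod.natCast_zmod_val, mul_comm]
    · have := congrArg (g ^ (1 : ZMod p).val).ofConv h0
      rw [map_pow, hx, map_zero, show F 1 = 1 from ?_, one_pow] at this
      · exact one_ne_zero this
      · simp [F, isUnit_one]

/-- The dual algebra is generated by one element. -/
theorem exists_dual_gen (hA : Module.finrank k A = p) :
    ∃ ξ : WithConv (A →ₗ[k] k), LinearIndependent k fun t : Fin p => (ξ ^ (t : ℕ)).ofConv := by
  classical
  by_cases hG : ∀ g : WithConv (A →ₐ[k] k), g = 1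
  · obtain ⟨x, φ, hx, hIp, hφlow, hφt⟩ := exists_derivation_of_points hA hG
    refine ⟨φ, Fintype.linearIndependent_iff.2 fun c hc => ?_⟩
    by_contra hne
    push Not at hne
    obtain ⟨t₀, ht₀⟩ := hne
    obtain ⟨t, ht, hmax⟩ := (Finset.univ.filter fun t => c t ≠ 0).exists_max_image id ⟨t₀, by simp [ht₀]⟩
    rw [Finset.mem_filter] at ht
    have h := LinearMap.congr_fun hc (x ^ (t : ℕ))
    rw [LinearMap.sum_apply, Finset.sum_eq_single t] at h
    · simp only [LinearMap.smul_apply, smul_eq_mul, LinearMap.zero_apply, mul_eq_zero] at h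
      exact h.elim ht.2 (hφt _ t.isLt)
    · intro s _ hs
      rcases lt_or_gt_of_ne hs with hlt | hgt
      · rw [LinearMap.smul_apply, hφlow s _ (Ideal.pow_le_pow_right (Nat.succ_le_of_lt hlt)
          (Ideal.pow_mem_pow hx _)), smul_zero]
      · have : c s = 0 := by
          by_contra hcs
          exact not_le.2 hgt (hmax s (by simp [hcs]))
        rw [this, zero_smul, LinearMap.zero_apply]
    · simp
  · push Not at hG
    obtain ⟨g, hg⟩ := hG
    obtain ⟨e, he, hext⟩ := exists_basis_of_point hA hg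
    refine ⟨toConv g.ofConv.toLinearMap, Fintype.linearIndependent_iff.2 fun c hc s => ?_⟩
    have hpow : ∀ t : ℕ, (toConv g.ofConv.toLinearMap : WithConv (A →ₗ[k] k)) ^ t =
        toConv (g ^ t).ofConv.toLinearMap := fun t => (AlgHom.toLinearMap_convPow g t).symm
    have h := LinearMap.congr_fun hc (e ((s : ℕ) : ZMod p))
    rw [LinearMap.sum_apply, Finset.sum_eq_single s] at h
    · rw [LinearMap.smul_apply, hpow, WithConv.ofConv_toConv, AlgHom.toLinearMap_apply] at h
      have h2 := he ((s : ℕ) : ZMod p) ((s : ℕ) : ZMod p)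
      rw [ZMod.val_natCast, Nat.mod_eq_of_lt s.isLt, if_pos rfl] at h2
      simpa [h2] using h
    · intro b _ hb
      rw [LinearMap.smul_apply, hpow, WithConv.ofConv_toConv, AlgHom.toLinearMap_apply]
      have h2 := he ((s : ℕ) : ZMod p) ((b : ℕ) : ZMod p)
      rw [ZMod.val_natCast, Nat.mod_eq_of_lt b.isLt, if_neg] at h2
      · rw [h2, smul_zero]
      · intro hc'
        have h3 := congrArg ZMod.val hc'
        rw [ZMod.val_natCast, ZMod.val_natCast, Nat.mod_eq_of_lt b.isLt, Nat.mod_eq_of_lt s.isLt] at h3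
        exact hb (Fin.ext h3)
    · simp

end Groth.L15.OT
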