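import Groth.Agent.L15.OT.Iso
import Groth.Agent.L15.OT.Dual

/-!
The classification in terms of generators of the first eigenspaces.
-/

set_option autoImplicit false

noncomputable section

universe u

open TensorProduct
open WithConv Coalgebra

namespace Groth.L15.OT

variable {R : Type u} [CommRing R] {p : ℕ} [hpF : Fact p.Prime] {u : R} {χ : (ZMod p)ˣ →* Rˣ}
  {A : Type u} [CommRing A] [HopfAlgebra R A] [Module.Finite R A] [Module.Projective R A] [Coalgebra.IsCocomm R A]
  {B : Type u} [CommRing B] [HopfAlgebra R B] [Module.Finite R B] [Module.Projective R B] [Coalgebra.IsCocomm R B]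

omit [Module.Finite R A] [Module.Projective R A] [Coalgebra.IsCocomm R A] in
theorem eq_coeff_smul {x : A} (hx : Submodule.span R {x} = OortTate.eigenAug R A p χ 1) {g : A →ₗ[R] R}
    (hg : g x = 1) {a : A} (ha : a ∈ OortTate.eigenAug R A p χ 1) : a = g a • x := by
  rw [← hx, Submodule.mem_span_singleton] at ha
  obtain ⟨r, rfl⟩ := ha
  rw [map_smul, hg, smul_eq_mul, mul_one]

theorem nonempty_bialgEquiv_gens (h : Chi' p u χ) (hrk : ∀ q : PrimeSpectrum R, Module.rankAtStalk A q = p)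
    (hrk' : ∀ q : PrimeSpectrum R, Module.rankAtStalk B q = p)
    {x : A} (hx : Submodule.span R {x} = OortTate.eigenAug R A p χ 1)
    {ξ : CartDual.D R A} (hξ : Submodule.span R {ξ} = OortTate.eigenAug R (CartDual.D R A) p χ 1)
    (hxξ : ξ.ofConv x = 1)
    {x' : B} (hx' : Submodule.span R {x'} = OortTate.eigenAug R B p χ 1)
    {ξ' : CartDual.D R B} (hξ' : Submodule.span R {ξ'} = OortTate.eigenAug R (CartDual.D R B) p χ 1)
    (hxξ' : ξ'.ofConv x' = 1)
    {α β α' β' : R} (hα : x ^ p = α • x) (hβ : ξ ^ p = β • ξ) (hα' : x' ^ p = α' • x')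
    (hβ' : ξ' ^ p = β' • ξ')
    (v : Rˣ) (hαv : α' = ((v ^ (p - 1) : Rˣ) : R) * α) (hβv : β' = ((v⁻¹ ^ (p - 1) : Rˣ) : R) * β) :
    Nonempty (A ≃ₐc[R] B) := by
  have hxm : x ∈ OortTate.eigenAug R A p χ 1 := hx ▸ Submodule.mem_span_singleton_self x
  have hxm' : x' ∈ OortTate.eigenAug R B p χ 1 := hx' ▸ Submodule.mem_span_singleton_self x'
  have hξm : ξ ∈ OortTate.eigenAug R (CartDual.D R A) p χ 1 := hξ ▸ Submodule.mem_span_singleton_self ξ
  have hξm' : ξ' ∈ OortTate.eigenAug R (CartDual.D R B) p χ 1 := hξ' ▸ Submodule.mem_span_singleton_self ξ'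
  let X : B := ((v⁻¹ : Rˣ) : R) • x'
  let Ξ : CartDual.D R B := (v : R) • ξ'
  have hX : X ∈ OortTate.eigenAug R B p χ 1 := Submodule.smul_mem _ _ hxm'
  have hΞ : Ξ ∈ OortTate.eigenAug R (CartDual.D R B) p χ 1 := Submodule.smul_mem _ _ hξm'
  have hXΞ : Ξ.ofConv X = 1 := by simp [X, Ξ, hxξ']
  have hspX : Submodule.span R {X} = OortTate.eigenAug R B p χ 1 := by
    rw [← hx']
    exact Submodule.span_singleton_smul_eq (v⁻¹).isUnit x'
  have hpp : p = (p - 1) + 1 := by have := hpF.out.one_lt; omega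
  have hXp : X ^ p = α • X := by
    simp only [X, smul_pow, hα', hαv, smul_smul]
    congr 1
    conv_lhs => rw [hpp, pow_succ]
    rw [← Units.val_pow_eq_pow_val]
    have : ((v⁻¹ ^ (p - 1) : Rˣ) : R) * ((v ^ (p - 1) : Rˣ) : R) = 1 := by
      rw [← Units.val_mul, ← mul_pow, inv_mul_cancel, one_pow, Units.val_one]
    simp only [Nat.add_sub_cancel]
    linear_combination (((v⁻¹ : Rˣ) : R) * α) * this
  have hΞp : Ξ ^ p = β • Ξ := by
    simp only [Ξ, smul_pow, hβ', hβv, smul_smul]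
    congr 1
    conv_lhs => rw [hpp, pow_succ]
    rw [← Units.val_pow_eq_pow_val]
    have : ((v ^ (p - 1) : Rˣ) : R) * ((v⁻¹ ^ (p - 1) : Rˣ) : R) = 1 := by
      rw [← Units.val_mul, ← mul_pow, mul_inv_cancel, one_pow, Units.val_one]
    simp only [Nat.add_sub_cancel]
    linear_combination ((v : R) * β) * this
  let θ : OortTate.eigenAug R A p χ 1 ≃ₗ[R] OortTate.eigenAug R B p χ 1 :=
    LinearEquiv.ofLinear (LinearMap.toSpanSingleton R _ (⟨X, hX⟩ : OortTate.eigenAug R B p χ 1) ∘ₗ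
        ξ.ofConv ∘ₗ (OortTate.eigenAug R A p χ 1).subtype)
      (LinearMap.toSpanSingleton R _ (⟨x, hxm⟩ : OortTate.eigenAug R A p χ 1) ∘ₗ
        Ξ.ofConv ∘ₗ (OortTate.eigenAug R B p χ 1).subtype)
      (by
        refine LinearMap.ext fun b => Subtype.ext ?_
        show ξ.ofConv (Ξ.ofConv b • x) • X = b
        rw [map_smul, hxξ, smul_eq_mul, mul_one]
        exact (eq_coeff_smul hspX hXΞ b.2).symm)
      (by
        refine LinearMap.ext fun a => Subtype.ext ?_
        show Ξ.ofConv (ξ.ofConv a • X) • x = a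
        rw [map_smul, hXΞ, smul_eq_mul, mul_one]
        exact (eq_coeff_smul hx hxξ a.2).symm)
  have hθa : ∀ a : OortTate.eigenAug R A p χ 1, (θ a : B) = ξ.ofConv (a : A) • X := fun a => rfl
  refine nonempty_bialgEquiv h hrk hrk' θ ?_ ?_
  · intro f g hg
    simp only [hθa, Finset.prod_smul, Finset.prod_const, Finset.card_univ, Fintype.card_fin, hXp, smul_smul]
    congr 1
    rw [hg, Finset.prod_congr rfl fun i _ => eq_coeff_smul hx hxξ (f i).2, Finset.prod_smul]
    simp [hα, hxξ, smul_smul]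
  · intro φ φ' ψ ψ' hφ hψ hψ' a
    simp only [CartDual.toDual_apply, hθa] at hφ ⊢
    let ev : CartDual.D R A →ₗ[R] R := LinearMap.applyₗ x ∘ₗ (CartDual.toDual R A).toLinearMap
    let ev' : CartDual.D R B →ₗ[R] R := LinearMap.applyₗ X ∘ₗ (CartDual.toDual R B).toLinearMap
    have hc : ∀ i, (φ i : CartDual.D R A) = (φ i : CartDual.D R A).ofConv x • ξ := fun i =>
      eq_coeff_smul (A := CartDual.D R A) hξ (g := ev) hxξ (φ i).2
    have hspΞ : Submodule.span R {Ξ} = OortTate.eigenAug R (CartDual.D R B) p χ 1 := by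
      rw [← hξ']
      exact Submodule.span_singleton_smul_eq v.isUnit ξ'
    have hd : ∀ i, (φ' i : CartDual.D R B) = (φ i : CartDual.D R A).ofConv x • Ξ := fun i => by
      rw [hφ i ⟨x, hxm⟩]
      simp only [hxξ, one_smul]
      exact eq_coeff_smul (A := CartDual.D R B) hspΞ (g := ev') hXΞ (φ' i).2
    rw [hψ, hψ', Finset.prod_congr rfl fun i _ => hc i, Finset.prod_congr rfl fun i _ => hd i]
    simp only [Finset.prod_smul, Finset.prod_const, Finset.card_univ, Fintype.card_fin, hΞp, hβ, smul_smul,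
      WithConv.ofConv_smul, LinearMap.smul_apply, map_smul, hXΞ, smul_eq_mul, mul_one]
    ring

end Groth.L15.OT
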