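import Groth.Agent.L15.OT.Univ

/-!
The group algebra of the cyclic group of order `p`.
-/

set_option autoImplicit false

noncomputable section

universe u

open TensorProduct
open WithConv Coalgebra

namespace Groth.L15.OT

variable {R : Type u} [CommRing R] {p : ℕ} [hpF : Fact p.Prime] {u : R} {χ : (ZMod p)ˣ →* Rˣ}

theorem rankAtStalk_groupAlgebra [Nontrivial R] (q : PrimeSpectrum R) :
    Module.rankAtStalk (MonoidAlgebra R (Multiplicative (ZMod p))) q = p := by
  rw [Module.rankAtStalk_eq_finrank_of_free]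
  show Module.finrank R (MonoidAlgebra R (Multiplicative (ZMod p))) = p
  rw [Module.finrank_eq_card_basis (MonoidAlgebra.basis (Multiplicative (ZMod p)) R), Fintype.card_multiplicative, ZMod.card]

theorem rankAtStalk_groupAlgebra' (q : PrimeSpectrum R) :
    Module.rankAtStalk (MonoidAlgebra R (Multiplicative (ZMod p))) q = p := by
  haveI : Nontrivial R := q.nontrivial
  exact rankAtStalk_groupAlgebra q

theorem eq_smul_ygen (h : Chi p u χ) (i : ℕ) {a : MonoidAlgebra R (Multiplicative (ZMod p))}
    (ha : a ∈ OortTate.eigenAug R (MonoidAlgebra R (Multiplicative (ZMod p))) p χ i) :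
    ∃ c : R, a = c • OortTate.ygen R p u χ i := by
  obtain ⟨c, hc⟩ := exists_pE_eq_smul h i a
  exact ⟨c, by rw [← hc, pE_self h ha]⟩

theorem ygen_free (h : Chi' p u χ) (i : ℕ) {r : R} (hr : r • OortTate.ygen R p u χ i = 0) : r = 0 := by
  haveI := projective_eigenAug (A := MonoidAlgebra R (Multiplicative (ZMod p))) h.toChi killed_groupAlgebra i
  haveI := finite_eigenAug (A := MonoidAlgebra R (Multiplicative (ZMod p))) h.toChi killed_groupAlgebra i
  have hrk : ∀ q : PrimeSpectrum R, Module.rankAtStalk (MonoidAlgebra R (Multiplicative (ZMod p))) q = p :=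
    fun q => rankAtStalk_groupAlgebra' q
  refine faithful_of_rank (rankAtStalk_eigenAug (A := MonoidAlgebra R (Multiplicative (ZMod p))) h hrk i) fun z => Subtype.ext ?_
  obtain ⟨c, hc⟩ := eq_smul_ygen h.toChi i z.2
  rw [Submodule.coe_smul, hc, smul_smul, mul_comm, mul_smul, hr, smul_zero]
  rfl

theorem ygen_facts (h : Chi' p u χ) :
    LinearIndependent R (fun i : Fin (p - 1) => OortTate.ygen R p u χ (i : ℕ)) ∧
      Submodule.span R (Set.range (fun i : Fin (p - 1) => OortTate.ygen R p u χ (i : ℕ))) =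
        LinearMap.ker (Bialgebra.counitAlgHom R (MonoidAlgebra R (Multiplicative (ZMod p)))).toLinearMap ∧
      Algebra.adjoin R ({OortTate.ygen R p u χ 1} : Set (MonoidAlgebra R (Multiplicative (ZMod p)))) = ⊤ ∧
      ∃! w : R, OortTate.ygen R p u χ 1 ^ p = w • OortTate.ygen R p u χ 1 := by
  classical
  have hp := killed_groupAlgebra (R := R) (p := p)
  have hmem : ∀ i, OortTate.ygen R p u χ i ∈
      OortTate.eigenAug R (MonoidAlgebra R (Multiplicative (ZMod p))) p χ i := fun i => ygen_mem i
  refine ⟨?_, ?_, ?_, ?_⟩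
  · rw [Fintype.linearIndependent_iff]
    intro c hc j
    refine ygen_free h (j : ℕ) ?_
    have h1 := congrArg (pE R p u χ _ (j : ℕ)) hc
    rw [map_sum, map_zero, Finset.sum_eq_single j] at h1
    · rwa [map_smul, pE_self h.toChi (hmem _)] at h1
    · intro b _ hb
      rw [map_smul, pE_of_lt h.toChi j.isLt b.isLt (fun hc => hb (Fin.ext hc.symm)) (hmem _), smul_zero]
    · simp
  · refine le_antisymm (Submodule.span_le.2 ?_) ?_
    · rintro _ ⟨i, rfl⟩
      exact (mem_eigenAug.1 (hmem i)).1
    · rw [← iSup_eigenAug h.toChi hp]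
      refine iSup_le fun i a ha => ?_
      obtain ⟨c, rfl⟩ := eq_smul_ygen h.toChi (i : ℕ) ha
      exact Submodule.smul_mem _ _ (Submodule.subset_span ⟨i, rfl⟩)
  · rw [eq_top_iff]
    intro a _
    rw [← sum_pE h.toChi a]
    refine Subalgebra.add_mem _ (Subalgebra.algebraMap_mem _ _) (Subalgebra.sum_mem _ fun i _ => ?_)
    obtain ⟨t, ht1, ht, hti⟩ := exists_index (p := p) i
    have hrk : ∀ q : PrimeSpectrum R, Module.rankAtStalk (MonoidAlgebra R (Multiplicative (ZMod p))) q = p :=
      fun q => rankAtStalk_groupAlgebra' q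
    have hz : pE R p u χ _ i a ∈
        OortTate.eigenAug R (MonoidAlgebra R (Multiplicative (ZMod p))) p χ 1 ^ t := by
      rw [pow_eigenAug (A := MonoidAlgebra R (Multiplicative (ZMod p))) h hrk ht1 ht, ← eigenAug_mod, hti, eigenAug_mod]
      exact pE_mem hp i a
    have hle : OortTate.eigenAug R (MonoidAlgebra R (Multiplicative (ZMod p))) p χ 1 ≤
        Subalgebra.toSubmodule (Algebra.adjoin R {OortTate.ygen R p u χ 1}) := by
      intro z hz
      obtain ⟨c, rfl⟩ := eq_smul_ygen h.toChi 1 hz
      exact Submodule.smul_mem _ _ (Algebra.subset_adjoin rfl)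
    suffices hpow : ∀ n, 1 ≤ n → OortTate.eigenAug R (MonoidAlgebra R (Multiplicative (ZMod p))) p χ 1 ^ n ≤
        Subalgebra.toSubmodule (Algebra.adjoin R {OortTate.ygen R p u χ 1}) from hpow t ht1 hz
    intro n hn
    induction n, hn using Nat.le_induction with
    | base => rwa [pow_one]
    | succ n _ ih =>
      rw [pow_succ]
      exact Submodule.mul_le.2 fun x hx y hy => Subalgebra.mul_mem _ (ih hx) (hle hy)
  · have hpp : OortTate.ygen R p u χ 1 ^ p ∈
        OortTate.eigenAug R (MonoidAlgebra R (Multiplicative (ZMod p))) p χ 1 := by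
      have h1 := pow_mem_eigenAug (hmem 1) hpF.out.one_le
      have e : p % (p - 1) = 1 % (p - 1) := by
        conv_lhs => arg 1; rw [← Nat.sub_add_cancel hpF.out.one_le]
        rw [Nat.add_mod_left]
      rwa [← eigenAug_mod, e, eigenAug_mod] at h1
    obtain ⟨w, hw⟩ := eq_smul_ygen h.toChi 1 hpp
    exact ⟨w, hw, fun w' hw' => sub_eq_zero.1 (ygen_free h 1 (by rw [sub_smul, ← hw', hw, sub_self]))⟩

end Groth.L15.OT
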