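import Groth.Agent.L15.OT.Main
import Groth.Agent.L15.OT.Dual
import Mathlib.RingTheory.HopfAlgebra.MonoidAlgebra

/-!
The universal constants of Oort–Tate and the pairing of products.
-/

set_option autoImplicit false

noncomputable section

universe u

open TensorProduct
open WithConv Coalgebra

namespace Groth.L15.OT

variable {R : Type u} [CommRing R] {p : ℕ} [hpF : Fact p.Prime] {u : R} {χ : (ZMod p)ˣ →* Rˣ}

theorem powConv_of (n : ℕ) (g : Multiplicative (ZMod p)) :
    SGA3b.powConv R (MonoidAlgebra R (Multiplicative (ZMod p))) n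
      (MonoidAlgebra.of R (Multiplicative (ZMod p)) g) =
      MonoidAlgebra.of R (Multiplicative (ZMod p)) (g ^ n) := by
  induction n with
  | zero => simp [powConv_zero, MonoidAlgebra.of_apply, MonoidAlgebra.one_def, Algebra.algebraMap_eq_smul_one]
  | succ n ih =>
    unfold SGA3b.powConv at ih ⊢
    rw [pow_succ, AlgHom.convMul_apply, MonoidAlgebra.of_apply, MonoidAlgebra.comul_single,
      CommSemiring.comul_apply]
    simp only [TensorProduct.map_tmul, MonoidAlgebra.lsingle_apply, Algebra.TensorProduct.lift_tmul]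
    rw [MonoidAlgebra.of_apply] at ih
    rw [ih, AlgHom.id_apply, MonoidAlgebra.of_apply, MonoidAlgebra.single_mul_single,
      mul_one, pow_succ, MonoidAlgebra.of_apply]

theorem killed_groupAlgebra : Killed R (MonoidAlgebra R (Multiplicative (ZMod p))) p := by
  apply WithConv.ext
  refine MonoidAlgebra.algHom_ext (fun g => ?_) (Subsingleton.elim _ _)
  show SGA3b.powConv R _ p (MonoidAlgebra.of R _ g) = SGA3b.powConv R _ 0 (MonoidAlgebra.of R _ g)
  rw [powConv_of, powConv_of, pow_zero]
  congr 1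
  refine Multiplicative.toAdd.injective ?_
  rw [toAdd_pow, toAdd_one, ← Nat.cast_smul_eq_nsmul (ZMod p), ZMod.natCast_self, zero_smul]

theorem counit_of (g : Multiplicative (ZMod p)) :
    Bialgebra.counitAlgHom R (MonoidAlgebra R (Multiplicative (ZMod p))) (MonoidAlgebra.of R _ g) = 1 := by
  simp [MonoidAlgebra.of_apply]

theorem pE_muT (t : ℕ) :
    pE R p u χ (MonoidAlgebra R (Multiplicative (ZMod p))) t (OortTate.muT R p) = OortTate.ygen R p u χ t := by
  rw [pE_apply, show Bialgebra.counitAlgHom R _ (OortTate.muT R p) = 1 from counit_of _, map_one]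

theorem ygen_mem (t : ℕ) :
    OortTate.ygen R p u χ t ∈ OortTate.eigenAug R (MonoidAlgebra R (Multiplicative (ZMod p))) p χ t :=
  pE_muT (u := u) (χ := χ) t ▸ pE_mem killed_groupAlgebra t _

theorem exists_pE_eq_smul (h : Chi p u χ) (t : ℕ) (z : MonoidAlgebra R (Multiplicative (ZMod p))) :
    ∃ c : R, pE R p u χ _ t z = c • OortTate.ygen R p u χ t := by
  induction z using MonoidAlgebra.induction_on with
  | of g =>
    by_cases hg : Multiplicative.toAdd g = 0
    · refine ⟨0, ?_⟩
      have hg1 : g = 1 := Multiplicative.toAdd.injective hg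
      rw [hg1, map_one, pE_apply, map_one (Bialgebra.counitAlgHom R _), map_one, sub_self, map_zero, zero_smul]
    · obtain ⟨m, hm⟩ : ∃ m : (ZMod p)ˣ, (m : ZMod p) = Multiplicative.toAdd g := ⟨(Ne.isUnit hg).unit, rfl⟩
      refine ⟨(χ m : R) ^ t, ?_⟩
      have e : MonoidAlgebra.of R _ g = SGA3b.powConv R _ (m : ZMod p).val (OortTate.muT R p) := by
        rw [powConv_of]
        congr 1
        refine Multiplicative.toAdd.injective ?_
        rw [toAdd_pow, toAdd_ofAdd, nsmul_one, ZMod.natCast_zmod_val, hm]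
      rw [e, pE_powConv h killed_groupAlgebra, pE_muT]
  | add a b ha hb =>
    obtain ⟨c, hc⟩ := ha
    obtain ⟨c', hc'⟩ := hb
    exact ⟨c + c', by rw [map_add, hc, hc', add_smul]⟩
  | smul r a ha =>
    obtain ⟨c, hc⟩ := ha
    exact ⟨r * c, by rw [map_smul, hc, mul_smul]⟩

theorem exists_w (h : Chi p u χ) {t : ℕ} (ht : 1 ≤ t) :
    ∃ w : R, OortTate.ygen R p u χ 1 ^ t = w • OortTate.ygen R p u χ t := by
  obtain ⟨c, hc⟩ := exists_pE_eq_smul h t (OortTate.ygen R p u χ 1 ^ t)
  exact ⟨c, by rw [← hc, pE_self h (pow_mem_eigenAug (ygen_mem 1) ht)]⟩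

variable {A : Type u} [CommRing A] [HopfAlgebra R A]

/-- The power maps as a character of the cyclic group with values in the convolution algebra. -/
def powHom (hp : Killed R A p) : Multiplicative (ZMod p) →* WithConv (A →ₗ[R] A) where
  toFun g := toConv (SGA3b.powConv R A (Multiplicative.toAdd g).val).toLinearMap
  map_one' := by
    apply WithConv.ext
    refine LinearMap.ext fun a => ?_
    show SGA3b.powConv R A (0 : ZMod p).val a = _
    rw [ZMod.val_zero, powConv_zero, LinearMap.convOne_apply]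
    rfl
  map_mul' g g' := by
    rw [toAdd_mul, ZMod.val_add, ← hp.powConv_mod]
    unfold SGA3b.powConv
    rw [pow_add]
    exact AlgHom.toLinearMap_convMul _ _

variable [Coalgebra.IsCocomm R A]

/-- The induced map on the group algebra. -/
def liftHom (hp : Killed R A p) :
    MonoidAlgebra R (Multiplicative (ZMod p)) →ₐ[R] WithConv (A →ₗ[R] A) :=
  MonoidAlgebra.lift R (WithConv (A →ₗ[R] A)) (Multiplicative (ZMod p)) (powHom hp)

theorem liftHom_ygen (hp : Killed R A p) (t : ℕ) :
    liftHom hp (OortTate.ygen R p u χ t) = toConv (pE R p u χ A t) := by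
  apply WithConv.ext
  refine LinearMap.ext fun a => ?_
  rw [OortTate.ygen, proj_apply, map_smul, map_sum, WithConv.ofConv_smul, LinearMap.smul_apply,
    WithConv.ofConv_sum, LinearMap.sum_apply, WithConv.ofConv_toConv, pE_apply, proj_apply]
  congr 1
  refine Finset.sum_congr rfl fun m _ => ?_
  rw [map_sub, map_one, map_smul, map_sub, map_one, WithConv.ofConv_smul, LinearMap.smul_apply,
    WithConv.ofConv_sub, LinearMap.sub_apply, powConv_of, map_sub, AlgHom.commutes]
  congr 2
  rw [liftHom, MonoidAlgebra.lift_of]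
  show SGA3b.powConv R A (Multiplicative.toAdd (Multiplicative.ofAdd (1 : ZMod p) ^ (m : ZMod p).val)).val a = _
  rw [toAdd_pow, toAdd_ofAdd, nsmul_one, ZMod.natCast_zmod_val]

/-- The universal relation between the projections. -/
theorem pE_convPow (hp : Killed R A p) {t : ℕ} {w : R}
    (hw : OortTate.ygen R p u χ 1 ^ t = w • OortTate.ygen R p u χ t) :
    (toConv (pE R p u χ A 1) : WithConv (A →ₗ[R] A)) ^ t = w • toConv (pE R p u χ A t) := by
  rw [← liftHom_ygen hp, ← liftHom_ygen hp, ← map_pow, hw, map_smul]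

omit [Coalgebra.IsCocomm R A] in
theorem pE_congr {i j : ℕ} (hij : i % (p - 1) = j % (p - 1)) :
    pE R p u χ A i = pE R p u χ A j := by
  refine LinearMap.ext fun a => ?_
  rw [pE_apply, pE_apply, proj_apply, proj_apply]
  congr 1
  refine Finset.sum_congr rfl fun m _ => ?_
  rw [← chi_pow_mod χ m⁻¹ i, hij, chi_pow_mod]

variable [Module.Finite R A] [Module.Projective R A]

theorem dual_apply_pE (h : Chi p u χ) (hp : Killed R A p) {i : ℕ} {φ : CartDual.D R A}
    (hφ : φ ∈ OortTate.eigenAug R (CartDual.D R A) p χ i) (a : A) :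
    φ.ofConv (pE R p u χ A i a) = φ.ofConv a := by
  have h1 : φ.ofConv 1 = 0 := (mem_eigenAug.1 hφ).1
  conv_rhs => rw [← sum_pE h a, map_add, map_sum, Algebra.algebraMap_eq_smul_one, map_smul, h1, smul_zero, zero_add]
  have hlt : i % (p - 1) < p - 1 := Nat.mod_lt _ (by have := hpF.out.two_le; omega)
  rw [Finset.sum_eq_single (i % (p - 1))]
  · rw [pE_congr (Nat.mod_mod i (p - 1))]
  · intro j hj hne
    refine dual_apply_eq_zero h ?_ hφ (pE_mem hp j a)
    rw [Nat.mod_eq_of_lt (Finset.mem_range.1 hj)]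
    exact Ne.symm hne
  · exact fun hc => absurd (Finset.mem_range.2 hlt) hc

omit hpF [Module.Finite R A] [Module.Projective R A] in
theorem smulConv_pow (ξ : CartDual.D R A) (x : A) (t : ℕ) (a : A) :
    ((toConv (LinearMap.toSpanSingleton R A x ∘ₗ ξ.ofConv) : WithConv (A →ₗ[R] A)) ^ t).ofConv a =
      (ξ ^ t).ofConv a • x ^ t := by
  induction t generalizing a with
  | zero => simp [LinearMap.convOne_apply, Algebra.algebraMap_eq_smul_one]
  | succ t ih =>
    rw [pow_succ, pow_succ, pow_succ, LinearMap.convMul_apply, LinearMap.convMul_apply, ← (ℛ R a).eq,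
      map_sum, map_sum, map_sum, map_sum, Finset.sum_smul]
    refine Finset.sum_congr rfl fun i _ => ?_
    simp only [TensorProduct.map_tmul, LinearMap.mul'_apply, WithConv.ofConv_toConv, LinearMap.comp_apply,
      LinearMap.toSpanSingleton_apply, ih, smul_mul_smul_comm]

/-- Local generators of the first eigenspaces of the algebra and of its dual. -/
theorem exists_local_gens (h : Chi' p u χ) (hrk : ∀ q : PrimeSpectrum R, Module.rankAtStalk A q = p)
    (𝔪 : Ideal R) [𝔪.IsPrime] :
    ∃ s, s ∉ 𝔪 ∧ ∃ x ∈ OortTate.eigenAug R A p χ 1, ∃ ξ ∈ OortTate.eigenAug R (CartDual.D R A) p χ 1,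
      (∀ a ∈ OortTate.eigenAug R A p χ 1, ∃ r : R, s • a = r • x) ∧
      ∀ φ ∈ OortTate.eigenAug R (CartDual.D R A) p χ 1, ∃ r : R, s • φ = r • ξ := by
  have hp := killed hrk
  have hrkD : ∀ q : PrimeSpectrum R, Module.rankAtStalk (CartDual.D R A) q = p := rankAtStalk_D hrk
  haveI := projective_eigenAug (A := A) h.toChi hp 1
  haveI := finite_eigenAug (A := A) h.toChi hp 1
  haveI := projective_eigenAug (A := CartDual.D R A) h.toChi (killed_dual hp) 1
  haveI := finite_eigenAug (A := CartDual.D R A) h.toChi (killed_dual hp) 1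
  obtain ⟨s₁, hs₁, x, hx⟩ := exists_cyclic (rankAtStalk_eigenAug h hrk 1) 𝔪
  obtain ⟨s₂, hs₂, ξ, hξ⟩ := exists_cyclic (rankAtStalk_eigenAug (A := CartDual.D R A) h hrkD 1) 𝔪
  refine ⟨s₁ * s₂, fun hc => (‹𝔪.IsPrime›.mem_or_mem hc).elim hs₁ hs₂, x, x.2, ξ, ξ.2, fun a ha => ?_,
    fun φ hφ => ?_⟩
  · obtain ⟨r, hr⟩ := hx ⟨a, ha⟩
    refine ⟨s₂ * r, ?_⟩
    rw [mul_comm s₁, mul_smul, mul_smul]
    exact congrArg (s₂ • ·) (congrArg Subtype.val hr)
  · obtain ⟨r, hr⟩ := hξ ⟨φ, hφ⟩
    refine ⟨s₁ * r, ?_⟩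
    rw [mul_smul, mul_smul]
    exact congrArg (s₁ • ·) (congrArg Subtype.val hr)

/-- The pairing of products is the universal constant times the product of pairings. -/
theorem pairing_prod (h : Chi' p u χ) (hrk : ∀ q : PrimeSpectrum R, Module.rankAtStalk A q = p)
    {t : ℕ} (ht1 : 1 ≤ t) (ht : t ≤ p - 1) {w : R}
    (hw : OortTate.ygen R p u χ 1 ^ t = w • OortTate.ygen R p u χ t)
    (φ : Fin t → CartDual.D R A) (hφ : ∀ i, φ i ∈ OortTate.eigenAug R (CartDual.D R A) p χ 1)
    (f : Fin t → A) (hf : ∀ i, f i ∈ OortTate.eigenAug R A p χ 1) :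
    (∏ i, φ i).ofConv (∏ i, f i) = w * ∏ i, (φ i).ofConv (f i) := by
  have hp := killed hrk
  refine eq_of_locally (R := R) (M := R) fun 𝔪 h𝔪 => ?_
  obtain ⟨s, hs, x, hx, ξ, hξ, hxs, hξs⟩ := exists_local_gens (A := A) h hrk 𝔪
  set c := ξ.ofConv x with hc
  have hpow : ∀ n : ℕ, s ^ n ∉ 𝔪 := fun n hn => hs (h𝔪.isPrime.mem_of_pow_mem n hn)
  -- the projection in terms of the generators
  have hF : (c * s) • (toConv (pE R p u χ A 1) : WithConv (A →ₗ[R] A)) =
      s • toConv (LinearMap.toSpanSingleton R A x ∘ₗ ξ.ofConv) := by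
    apply WithConv.ext
    refine LinearMap.ext fun a => ?_
    simp only [WithConv.ofConv_smul, WithConv.ofConv_toConv, LinearMap.smul_apply, LinearMap.comp_apply,
      LinearMap.toSpanSingleton_apply]
    obtain ⟨r, hr⟩ := hxs _ (pE_mem hp 1 a)
    have h2 : s * ξ.ofConv a = r * c := by
      have := congrArg ξ.ofConv hr
      rwa [map_smul, map_smul, dual_apply_pE h.toChi hp hξ, smul_eq_mul, smul_eq_mul] at this
    rw [mul_smul, hr, smul_smul, smul_smul, mul_comm c r, ← h2]
  have hFt : ∀ a, ((c * s) ^ t * w) • pE R p u χ A t a = (s ^ t * (ξ ^ t).ofConv a) • x ^ t := by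
    intro a
    have h1 := congrArg (fun F : WithConv (A →ₗ[R] A) => (F ^ t).ofConv a) hF
    simp only [smul_pow, pE_convPow hp hw, WithConv.ofConv_smul, LinearMap.smul_apply, smulConv_pow,
      WithConv.ofConv_toConv, smul_smul] at h1
    exact h1
  have hxt := pow_mem_eigenAug hx ht1
  -- the key value
  have hval : s ^ (2 * t) * (ξ ^ t).ofConv (x ^ t) = s ^ (2 * t) * (c ^ t * w) := by
    have h1 := hFt (x ^ t)
    rw [pE_self h.toChi hxt, ← sub_eq_zero, ← sub_smul] at h1
    have hgen : ∀ z ∈ OortTate.eigenAug R A p χ 1 ^ t, ∃ r : R, s ^ t • z = r • x ^ t := by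
      clear hF hFt hxt h1 hw hpow ht φ hφ f hf
      induction t, ht1 using Nat.le_induction with
      | base => simpa using hxs
      | succ n _ ih =>
        intro z hz
        rw [pow_succ] at hz
        induction hz using Submodule.mul_induction_on' with
        | mem_mul_mem a ha b hb =>
          obtain ⟨r, hr⟩ := ih a ha
          obtain ⟨r', hr'⟩ := hxs b hb
          exact ⟨r * r', by rw [pow_succ, pow_succ, ← smul_mul_smul_comm, hr, hr', smul_mul_smul_comm]⟩
        | add a _ b _ ha hb =>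
          obtain ⟨r, hr⟩ := ha
          obtain ⟨r', hr'⟩ := hb
          exact ⟨r + r', by rw [smul_add, hr, hr', add_smul]⟩
    haveI := projective_eigenAug (A := A) h.toChi hp t
    haveI := finite_eigenAug (A := A) h.toChi hp t
    have h2 : s ^ t * ((c * s) ^ t * w - s ^ t * (ξ ^ t).ofConv (x ^ t)) = 0 := by
      refine faithful_of_rank (rankAtStalk_eigenAug h hrk t) fun z => Subtype.ext ?_
      obtain ⟨r, hr⟩ := hgen z (by rw [pow_eigenAug h hrk ht1 ht]; exact z.2)
      rw [Submodule.coe_smul, ZeroMemClass.coe_zero, mul_comm, mul_smul, hr, smul_smul, mul_comm, mul_smul,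
        h1, smul_zero]
    rw [pow_mul, pow_two]
    linear_combination -h2
  choose r hr using fun i => hxs (f i) (hf i)
  choose q hq using fun i => hξs (φ i) (hφ i)
  refine ⟨s ^ (4 * t), hpow _, ?_⟩
  have e1 : s ^ t • ∏ i, f i = (∏ i, r i) • x ^ t := by
    conv_lhs => rw [← Fin.prod_const t s, ← Finset.prod_smul, Finset.prod_congr rfl fun i _ => hr i, Finset.prod_smul]
    rw [Fin.prod_const]
  have e2 : s ^ t • ∏ i, φ i = (∏ i, q i) • ξ ^ t := by
    conv_lhs => rw [← Fin.prod_const t s, ← Finset.prod_smul, Finset.prod_congr rfl fun i _ => hq i, Finset.prod_smul]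
    rw [Fin.prod_const]
  have e3 : s ^ (2 * t) * (∏ i, φ i).ofConv (∏ i, f i) = (∏ i, q i) * (∏ i, r i) * (ξ ^ t).ofConv (x ^ t) := by
    have := congrArg (fun F : CartDual.D R A => F.ofConv (s ^ t • ∏ i, f i)) e2
    simp only [WithConv.ofConv_smul, LinearMap.smul_apply, smul_eq_mul] at this
    conv_rhs at this => rw [e1, map_smul, smul_eq_mul]
    rw [map_smul, smul_eq_mul] at this
    rw [two_mul, pow_add]
    linear_combination this
  have e4 : s ^ (2 * t) * ∏ i, (φ i).ofConv (f i) = (∏ i, q i) * (∏ i, r i) * c ^ t := by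
    have h4 : ∀ i, s ^ 2 * (φ i).ofConv (f i) = q i * r i * c := by
      intro i
      have := congrArg (fun F : CartDual.D R A => F.ofConv (s • f i)) (hq i)
      simp only [WithConv.ofConv_smul, LinearMap.smul_apply, smul_eq_mul] at this
      conv_rhs at this => rw [hr i, map_smul, smul_eq_mul]
      rw [map_smul, smul_eq_mul] at this
      linear_combination this
    rw [pow_mul, ← Fin.prod_const t (s ^ 2), ← Finset.prod_mul_distrib, Finset.prod_congr rfl fun i _ => h4 i,
      Finset.prod_mul_distrib, Finset.prod_mul_distrib, Fin.prod_const]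
  rw [smul_eq_mul, smul_eq_mul, show 4 * t = 2 * t + 2 * t by ring, pow_add]
  linear_combination (s ^ (2 * t)) * e3 + ((∏ i, q i) * ∏ i, r i) * hval - (s ^ (2 * t) * w) * e4

end Groth.L15.OT
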