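import Groth.Agent.L15.OT.Present
import Groth.Agent.L15.OT.Univ
import Mathlib.RingTheory.Bialgebra.Equiv
import Mathlib.Algebra.Group.Pointwise.Set.ListOfFn

/-!
A group scheme of rank `p` is determined by the first eigenspace with its `p`-th power maps.
-/

set_option autoImplicit false

noncomputable section

universe u

open TensorProduct
open WithConv Coalgebra

namespace Groth.L15.OT

variable {R : Type u} [CommRing R] {p : ℕ} [hpF : Fact p.Prime] {u : R} {χ : (ZMod p)ˣ →* Rˣ}
  {A : Type u} [CommRing A] [HopfAlgebra R A] [Module.Finite R A] [Module.Projective R A]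
  {B : Type u} [CommRing B] [HopfAlgebra R B] [Module.Finite R B] [Module.Projective R B]

omit hpF [Module.Finite R A] [Module.Projective R A] in
theorem pow_le_span_prod (M : Submodule R A) (t : ℕ) :
    M ^ t ≤ Submodule.span R (Set.range fun f : Fin t → M => ∏ i, (f i : A)) := by
  rw [Submodule.pow_eq_span_pow_set]
  refine Submodule.span_mono fun a ha => ?_
  obtain ⟨f, hf⟩ := Set.mem_pow.1 ha
  exact ⟨f, by rw [← hf, List.prod_ofFn]⟩

omit [Module.Finite R A] [Module.Projective R A] in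
theorem mem_one_of_pow_one {a : A} (ha : a ∈ OortTate.eigenAug R A p χ 1) :
    Bialgebra.counitAlgHom R A a = 0 := (mem_eigenAug.1 ha).1

variable [Coalgebra.IsCocomm R A]

/-- An algebra map preserving the first eigenspaces commutes with counit and power maps. -/
theorem counit_comp_of_eigen (h : Chi' p u χ) (hrk : ∀ q : PrimeSpectrum R, Module.rankAtStalk A q = p)
    (Θ : A →ₐ[R] B) (hΘ : ∀ a ∈ OortTate.eigenAug R A p χ 1, Θ a ∈ OortTate.eigenAug R B p χ 1) :
    (Bialgebra.counitAlgHom R B).comp Θ = Bialgebra.counitAlgHom R A :=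
  algHom_ext_eigen h hrk fun l => by
    rw [AlgHom.comp_apply, (mem_eigenAug.1 (hΘ _ l.2)).1, (mem_eigenAug.1 l.2).1]

theorem powConv_comp_of_eigen (h : Chi' p u χ) (hrk : ∀ q : PrimeSpectrum R, Module.rankAtStalk A q = p)
    (Θ : A →ₐ[R] B) (hΘ : ∀ a ∈ OortTate.eigenAug R A p χ 1, Θ a ∈ OortTate.eigenAug R B p χ 1)
    (m : (ZMod p)ˣ) :
    (SGA3b.powConv R B (m : ZMod p).val).comp Θ = Θ.comp (SGA3b.powConv R A (m : ZMod p).val) :=
  algHom_ext_eigen h hrk fun l => by
    rw [AlgHom.comp_apply, AlgHom.comp_apply, (mem_eigenAug.1 (hΘ _ l.2)).2 m, (mem_eigenAug.1 l.2).2 m,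
      map_smul]

theorem mem_of_eigen (h : Chi' p u χ) (hrk : ∀ q : PrimeSpectrum R, Module.rankAtStalk A q = p)
    (Θ : A →ₐ[R] B) (hΘ : ∀ a ∈ OortTate.eigenAug R A p χ 1, Θ a ∈ OortTate.eigenAug R B p χ 1)
    {i : ℕ} {a : A} (ha : a ∈ OortTate.eigenAug R A p χ i) : Θ a ∈ OortTate.eigenAug R B p χ i := by
  refine mem_eigenAug.2 ⟨?_, fun m => ?_⟩
  · rw [← AlgHom.comp_apply, counit_comp_of_eigen h hrk Θ hΘ, (mem_eigenAug.1 ha).1]
  · rw [← AlgHom.comp_apply, powConv_comp_of_eigen h hrk Θ hΘ m, AlgHom.comp_apply, (mem_eigenAug.1 ha).2 m,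
      map_smul]

variable [Coalgebra.IsCocomm R B]

/-- The transpose of an algebra map. -/
def transp (Θ : A →ₐ[R] B) : CartDual.D R B →ₗ[R] CartDual.D R A where
  toFun φ := toConv (φ.ofConv ∘ₗ Θ.toLinearMap)
  map_add' φ ψ := by ext a; simp
  map_smul' r φ := by ext a; simp

omit hpF [Module.Finite R A] [Module.Projective R A] [Coalgebra.IsCocomm R A] [Module.Finite R B]
  [Module.Projective R B] [Coalgebra.IsCocomm R B] in
theorem transp_apply (Θ : A →ₐ[R] B) (φ : CartDual.D R B) (a : A) :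
    (transp Θ φ).ofConv a = φ.ofConv (Θ a) := rfl

theorem transp_mem (h : Chi' p u χ) (hrk : ∀ q : PrimeSpectrum R, Module.rankAtStalk A q = p)
    (Θ : A →ₐ[R] B) (hΘ : ∀ a ∈ OortTate.eigenAug R A p χ 1, Θ a ∈ OortTate.eigenAug R B p χ 1)
    {i : ℕ} {φ : CartDual.D R B} (hφ : φ ∈ OortTate.eigenAug R (CartDual.D R B) p χ i) :
    transp Θ φ ∈ OortTate.eigenAug R (CartDual.D R A) p χ i := by
  refine mem_eigenAug.2 ⟨?_, fun m => ?_⟩
  · rw [counit_dual, transp_apply, map_one]
    exact (mem_eigenAug.1 hφ).1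
  · apply WithConv.ext
    refine LinearMap.ext fun a => ?_
    rw [powConv_dual, transp_apply, ← AlgHom.comp_apply, ← powConv_comp_of_eigen h hrk Θ hΘ m,
      AlgHom.comp_apply, ← powConv_dual, (mem_eigenAug.1 hφ).2 m, WithConv.ofConv_smul, WithConv.ofConv_smul,
      LinearMap.smul_apply, LinearMap.smul_apply, transp_apply]

/-- The transpose is multiplicative on products from the first eigenspace. -/
theorem transp_prod (h : Chi' p u χ) (hrkA : ∀ q : PrimeSpectrum R, Module.rankAtStalk A q = p)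
    (hrkB : ∀ q : PrimeSpectrum R, Module.rankAtStalk B q = p)
    (Θ : A →ₐ[R] B) (hΘ : ∀ a ∈ OortTate.eigenAug R A p χ 1, Θ a ∈ OortTate.eigenAug R B p χ 1)
    {t : ℕ} (ht1 : 1 ≤ t) (ht : t ≤ p - 1)
    (φ : Fin t → OortTate.eigenAug R (CartDual.D R B) p χ 1) :
    transp Θ (∏ i, (φ i : CartDual.D R B)) = ∏ i, transp Θ (φ i : CartDual.D R B) := by
  obtain ⟨w, hw⟩ := exists_w h.toChi ht1
  have hp := killed hrkA
  have hl : ∏ i, (φ i : CartDual.D R B) ∈ OortTate.eigenAug R (CartDual.D R B) p χ t :=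
    prod_mem_eigenAug _ (fun i => (φ i).2) ht1
  have hr : ∏ i, transp Θ (φ i : CartDual.D R B) ∈ OortTate.eigenAug R (CartDual.D R A) p χ t :=
    prod_mem_eigenAug _ (fun i => transp_mem h hrkA Θ hΘ (φ i).2) ht1
  rw [← sub_eq_zero]
  refine dual_eq_zero h.toChi hp (Submodule.sub_mem _ (transp_mem h hrkA Θ hΘ hl) hr) fun a ha => ?_
  rw [← pow_eigenAug h hrkA ht1 ht] at ha
  refine Submodule.span_induction ?_ (map_zero _) (fun x y _ _ hx hy => by rw [map_add, hx, hy, add_zero])
    (fun r x _ hx => by rw [map_smul, hx, smul_zero]) (pow_le_span_prod _ t ha)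
  rintro _ ⟨f, rfl⟩
  show (transp Θ (∏ i, (φ i : CartDual.D R B)) - ∏ i, transp Θ (φ i : CartDual.D R B)).ofConv (∏ i, (f i : A)) = 0
  rw [WithConv.ofConv_sub, LinearMap.sub_apply, sub_eq_zero, transp_apply, map_prod,
    pairing_prod h hrkB ht1 ht hw _ (fun i => (φ i).2) _ (fun i => hΘ _ (f i).2),
    pairing_prod h hrkA ht1 ht hw _ (fun i => transp_mem h hrkA Θ hΘ (φ i).2) _ (fun i => (f i).2)]
  rfl

/-- A module map out of an algebra of rank `p` is determined by products of the first eigenspace. -/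
theorem linearMap_ext_prod (h : Chi' p u χ) (hrk : ∀ q : PrimeSpectrum R, Module.rankAtStalk A q = p)
    {M : Type u} [AddCommGroup M] [Module R M] {F G : A →ₗ[R] M} (h1 : F 1 = G 1)
    (hprod : ∀ t : ℕ, 1 ≤ t → t ≤ p - 1 → ∀ f : Fin t → OortTate.eigenAug R A p χ 1,
      F (∏ i, (f i : A)) = G (∏ i, (f i : A))) : F = G := by
  have hp := killed hrk
  refine LinearMap.ext fun a => ?_
  rw [← sum_pE h.toChi a, Algebra.algebraMap_eq_smul_one, map_add, map_add, map_smul, map_smul, h1, map_sum,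
    map_sum]
  congr 1
  refine Finset.sum_congr rfl fun i _ => ?_
  obtain ⟨t, ht1, ht, hti⟩ := exists_index (p := p) i
  have ha : pE R p u χ A i a ∈ OortTate.eigenAug R A p χ 1 ^ t := by
    rw [pow_eigenAug h hrk ht1 ht, ← eigenAug_mod, hti, eigenAug_mod]
    exact pE_mem hp i a
  refine LinearMap.eqOn_span ?_ (pow_le_span_prod _ t ha)
  rintro _ ⟨f, rfl⟩
  exact hprod t ht1 ht f

/-- Vectors of a tensor square are separated by tensors of forms. -/
theorem eq_of_map_forms {z z' : B ⊗[R] B}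
    (hz : ∀ φ ψ : CartDual.D R B, LinearMap.mul' R R (TensorProduct.map φ.ofConv ψ.ofConv z) =
      LinearMap.mul' R R (TensorProduct.map φ.ofConv ψ.ofConv z')) : z = z' := by
  rw [← sub_eq_zero, ← Module.forall_dual_apply_eq_zero_iff R]
  intro G
  rw [← (CartDual.ev₂ R B).apply_symm_apply G]
  generalize (CartDual.ev₂ R B).symm G = w
  induction w using TensorProduct.induction_on with
  | zero => simp
  | add x y hx hy => rw [map_add, LinearMap.add_apply, hx, hy, add_zero]
  | tmul φ ψ =>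
    have e : ∀ y, CartDual.ev₂ R B (φ ⊗ₜ ψ) y = LinearMap.mul' R R (TensorProduct.map φ.ofConv ψ.ofConv y) := by
      intro y
      induction y using TensorProduct.induction_on with
      | zero => simp
      | tmul a b => simp [CartDual.coe_apply]
      | add a b ha hb => simp only [map_add, ha, hb]
    rw [map_sub, e, e, hz, sub_self]

/-- The classification: the first eigenspaces with their power maps determine the group. -/
theorem nonempty_bialgEquiv (h : Chi' p u χ) (hrk : ∀ q : PrimeSpectrum R, Module.rankAtStalk A q = p)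
    (hrk' : ∀ q : PrimeSpectrum R, Module.rankAtStalk B q = p)
    (θ : OortTate.eigenAug R A p χ 1 ≃ₗ[R] OortTate.eigenAug R B p χ 1)
    (hθ : ∀ (f : Fin p → OortTate.eigenAug R A p χ 1) (g : OortTate.eigenAug R A p χ 1),
      (g : A) = ∏ i, (f i : A) → ((θ g : OortTate.eigenAug R B p χ 1) : B) = ∏ i, ((θ (f i)) : B))
    (hθD : ∀ (φ : Fin p → OortTate.eigenAug R (CartDual.D R A) p χ 1)
      (φ' : Fin p → OortTate.eigenAug R (CartDual.D R B) p χ 1)
      (ψ : OortTate.eigenAug R (CartDual.D R A) p χ 1) (ψ' : OortTate.eigenAug R (CartDual.D R B) p χ 1),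
      (∀ i, ∀ x : OortTate.eigenAug R A p χ 1,
        CartDual.toDual R A (φ i : CartDual.D R A) (x : A) =
          CartDual.toDual R B (φ' i : CartDual.D R B) ((θ x : OortTate.eigenAug R B p χ 1) : B)) →
      (ψ : CartDual.D R A) = ∏ i, (φ i : CartDual.D R A) →
      (ψ' : CartDual.D R B) = ∏ i, (φ' i : CartDual.D R B) →
      ∀ x : OortTate.eigenAug R A p χ 1,
        CartDual.toDual R A (ψ : CartDual.D R A) (x : A) =
          CartDual.toDual R B (ψ' : CartDual.D R B) ((θ x : OortTate.eigenAug R B p χ 1) : B)) :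
    Nonempty (A ≃ₐc[R] B) := by
  classical
  have hp := killed hrk
  obtain ⟨Θ, hΘ⟩ := exists_algHom h hrk ((OortTate.eigenAug R B p χ 1).subtype ∘ₗ θ.toLinearMap) hθ
  have hθ' : ∀ (f : Fin p → OortTate.eigenAug R B p χ 1) (g : OortTate.eigenAug R B p χ 1),
      (g : B) = ∏ i, (f i : B) →
        ((θ.symm g : OortTate.eigenAug R A p χ 1) : A) = ∏ i, ((θ.symm (f i)) : A) := by
    intro f g hg
    let g₀ : OortTate.eigenAug R A p χ 1 :=
      ⟨∏ i, ((θ.symm (f i)) : A), prod_mem_one _ fun i => (θ.symm (f i)).2⟩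
    have h1 := hθ (fun i => θ.symm (f i)) g₀ rfl
    simp only [LinearEquiv.apply_symm_apply] at h1
    rw [← hg] at h1
    rw [← Subtype.ext h1, LinearEquiv.symm_apply_apply]
  obtain ⟨Θ', hΘ'⟩ := exists_algHom h hrk' ((OortTate.eigenAug R A p χ 1).subtype ∘ₗ θ.symm.toLinearMap) hθ'
  have hinv₁ : Θ.comp Θ' = AlgHom.id R B := algHom_ext_eigen h hrk' fun l => by
    rw [AlgHom.comp_apply, hΘ' l]
    exact (hΘ (θ.symm l)).trans (by simp)
  have hinv₂ : Θ'.comp Θ = AlgHom.id R A := algHom_ext_eigen h hrk fun l => by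
    rw [AlgHom.comp_apply, hΘ l]
    exact (hΘ' (θ l)).trans (by simp)
  have hmem : ∀ a ∈ OortTate.eigenAug R A p χ 1, Θ a ∈ OortTate.eigenAug R B p χ 1 := fun a ha => by
    rw [show Θ a = (θ ⟨a, ha⟩ : B) from hΘ ⟨a, ha⟩]
    exact (θ _).2
  have hrkD := rankAtStalk_D hrk'
  -- the transpose is an algebra map
  obtain ⟨Γ, hΓ⟩ := exists_algHom (A := CartDual.D R B) h hrkD
    (transp Θ ∘ₗ (OortTate.eigenAug R (CartDual.D R B) p χ 1).subtype) (by
      intro f g hg
      let φ : Fin p → OortTate.eigenAug R (CartDual.D R A) p χ 1 := fun i => ⟨_, transp_mem h hrk Θ hmem (f i).2⟩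
      let ψ : OortTate.eigenAug R (CartDual.D R A) p χ 1 :=
        ⟨∏ i, (φ i : CartDual.D R A), prod_mem_one _ fun i => (φ i).2⟩
      show transp Θ (g : CartDual.D R B) = ψ
      rw [← sub_eq_zero]
      refine dual_eq_zero h.toChi hp (Submodule.sub_mem _ (transp_mem h hrk Θ hmem g.2) ψ.2) fun a ha => ?_
      rw [WithConv.ofConv_sub, LinearMap.sub_apply, sub_eq_zero, transp_apply, show Θ a = _ from hΘ ⟨a, ha⟩]
      exact (hθD φ f ψ g (fun i x => by
        rw [CartDual.toDual_apply, CartDual.toDual_apply]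
        show (f i : CartDual.D R B).ofConv (Θ x) = _
        rw [hΘ x]; rfl) rfl hg ⟨a, ha⟩).symm)
  have hT : transp Θ = Γ.toLinearMap := by
    refine linearMap_ext_prod (A := CartDual.D R B) h hrkD ?_ fun t ht1 ht f => ?_
    · rw [AlgHom.toLinearMap_apply, map_one Γ]
      apply WithConv.ext
      refine LinearMap.ext fun a => ?_
      rw [transp_apply, LinearMap.convOne_apply, LinearMap.convOne_apply, Algebra.algebraMap_self,
        RingHom.id_apply, RingHom.id_apply, ← Bialgebra.counitAlgHom_apply R B, ← Bialgebra.counitAlgHom_apply R A,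
        ← counit_comp_of_eigen h hrk Θ hmem, AlgHom.comp_apply]
    · rw [AlgHom.toLinearMap_apply, map_prod Γ, transp_prod h hrk hrk' Θ hmem ht1 ht f]
      exact Finset.prod_congr rfl fun i _ => (hΓ (f i)).symm
  have hmul : ∀ φ ψ : CartDual.D R B, transp Θ (φ * ψ) = transp Θ φ * transp Θ ψ := fun φ ψ => by
    simp only [hT, AlgHom.toLinearMap_apply, map_mul]
  refine ⟨BialgEquiv.ofAlgEquiv (AlgEquiv.ofAlgHom Θ Θ' hinv₁ hinv₂) ?_ ?_⟩
  · exact counit_comp_of_eigen h hrk Θ hmem
  · refine AlgHom.ext fun a => eq_of_map_forms fun φ ψ => ?_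
    have h1 := LinearMap.congr_fun (congrArg WithConv.ofConv (hmul φ ψ)) a
    rw [transp_apply, LinearMap.convMul_apply, LinearMap.convMul_apply] at h1
    refine Eq.trans ?_ h1.symm
    show LinearMap.mul' R R (TensorProduct.map φ.ofConv ψ.ofConv
      (TensorProduct.map Θ.toLinearMap Θ.toLinearMap (Coalgebra.comul (R := R) a))) = _
    rw [TensorProduct.map_map]
    rfl

end Groth.L15.OT
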