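import Groth.Agent.L15.OT.Deligne
import Mathlib.RingTheory.Nakayama
import Mathlib.RingTheory.Ideal.Quotient.Basic

/-!
Eigenspaces of a group scheme of rank `p`: rank one, generated by the first.
-/

set_option autoImplicit false

noncomputable section

universe u

open TensorProduct
open scoped Pointwise
open WithConv Coalgebra

namespace Groth.L15.OT

variable {R : Type u} [CommRing R] {p : ℕ} [hpF : Fact p.Prime]

/-- The hypotheses on the ground ring. -/
structure Chi' (p : ℕ) [Fact p.Prime] (u : R) (χ : (ZMod p)ˣ →* Rˣ) : Prop extends Chi p u χ where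
  hχp : ∀ m : (ZMod p)ˣ, ((χ m : Rˣ) : R) - (((m : ZMod p).val : ℕ) : R) ∈ Ideal.span ({(p : R)} : Set R)

variable {u : R} {χ : (ZMod p)ˣ →* Rˣ}

/-- The character on an algebra. -/
def chiMap (S : Type u) [CommRing S] [Algebra R S] (χ : (ZMod p)ˣ →* Rˣ) : (ZMod p)ˣ →* Sˣ :=
  (Units.map (algebraMap R S).toMonoidHom).comp χ

theorem chiMap_apply (S : Type u) [CommRing S] [Algebra R S] (χ : (ZMod p)ˣ →* Rˣ) (m : (ZMod p)ˣ) :
    (chiMap S χ m : S) = algebraMap R S (χ m : R) := rfl

theorem Chi'.map (h : Chi' p u χ) (S : Type u) [CommRing S] [Algebra R S] :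
    Chi' p (algebraMap R S u) (chiMap S χ) where
  hu := by rw [← map_natCast (algebraMap R S), ← map_mul, h.hu, map_one]
  hχ m hm := by rw [chiMap_apply, ← map_one (algebraMap R S), ← map_sub]; exact (h.hχ m hm).map _
  hχp m := by
    rw [chiMap_apply, ← map_natCast (algebraMap R S) ((m : ZMod p).val), ← map_natCast (algebraMap R S) p, ← map_sub,
      ← Set.image_singleton, ← Ideal.map_span]
    exact Ideal.mem_map_of_mem _ (h.hχp m)

variable {A : Type u} [CommRing A] [HopfAlgebra R A]

theorem one_tmul_smul (S : Type u) [CommRing S] [Algebra R S] (r : R) (a : A) :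
    (1 : S) ⊗ₜ[R] (r • a) = algebraMap R S r • ((1 : S) ⊗ₜ[R] a) := by
  rw [TensorProduct.tmul_smul, algebraMap_smul]

/-- The projections commute with base change. -/
theorem pE_baseChange (S : Type u) [CommRing S] [Algebra R S] (i : ℕ) (a : A) :
    pE S p (algebraMap R S u) (chiMap S χ) (S ⊗[R] A) i (1 ⊗ₜ[R] a) = (1 : S) ⊗ₜ[R] pE R p u χ A i a := by
  have e : (1 : S) ⊗ₜ[R] a - algebraMap S (S ⊗[R] A)
      (Bialgebra.counitAlgHom S (S ⊗[R] A) (1 ⊗ₜ[R] a)) =
      (1 : S) ⊗ₜ[R] (a - algebraMap R A (Bialgebra.counitAlgHom R A a)) := by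
    rw [counit_baseChange, TensorProduct.tmul_sub, ← IsScalarTower.algebraMap_apply R S (S ⊗[R] A),
      Algebra.algebraMap_eq_smul_one (R := R) (A := A), TensorProduct.tmul_smul,
      Algebra.algebraMap_eq_smul_one (R := R) (A := S ⊗[R] A)]
    rfl
  rw [pE_apply, pE_apply, e, proj_apply, proj_apply, one_tmul_smul, TensorProduct.tmul_sum]
  congr 1
  refine Finset.sum_congr rfl fun m _ => ?_
  rw [powConv_baseChange, one_tmul_smul, map_pow, chiMap_apply]

variable [Module.Finite R A] [Module.Projective R A]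

theorem rankAtStalk_eq_finrank_field {M : Type u} [AddCommGroup M] [Module R M] [Module.Finite R M]
    [Module.Projective R M] (q : PrimeSpectrum R) (K : Type u) [Field K] [Algebra R K]
    (hK : RingHom.ker (algebraMap R K) = q.asIdeal) :
    Module.rankAtStalk M q = Module.finrank K (K ⊗[R] M) := by
  have h := Module.rankAtStalk_baseChange (R := R) (M := M) (S := K) ⟨⊥, Ideal.isPrime_bot⟩
  rw [Module.rankAtStalk_eq_finrank_of_free] at h
  rw [show q = PrimeSpectrum.comap (algebraMap R K) ⟨⊥, Ideal.isPrime_bot⟩ from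
    PrimeSpectrum.ext hK.symm]
  exact h.symm

/-- The structure of the geometric fibres. -/
theorem exists_line (h : Chi' p u χ) (hrk : ∀ q : PrimeSpectrum R, Module.rankAtStalk A q = p)
    (K : Type u) [Field K] [IsAlgClosed K] [Algebra R K] :
    ∃ x ∈ OortTate.eigenAug K (K ⊗[R] A) p (chiMap K χ) 1, (∀ t, t ≤ p - 1 → x ^ t ≠ 0) ∧
      ∀ t, 1 ≤ t → t ≤ p - 1 → ∀ a ∈ OortTate.eigenAug K (K ⊗[R] A) p (chiMap K χ) t,
        ∃ c : K, a = c • x ^ t := by
  classical
  obtain ⟨_, hdim⟩ := finrank_baseChange_local hrk K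
  have hK := h.map K
  obtain ⟨x, hx, hx0⟩ := exists_gen (k := K) (A := K ⊗[R] A) hK.toChi hK.hχp hdim
  have hnz : ∀ t, t ≤ p - 1 → x ^ t ≠ 0 := fun t ht hc => hx0 (pow_eq_zero_of_le ht hc)
  refine ⟨x, hx, hnz, fun t ht1 ht a ha => ?_⟩
  set E := fun i => pE K p (algebraMap R K u) (chiMap K χ) (K ⊗[R] A) i
  have h1 : ∀ i, E i (1 : K ⊗[R] A) = 0 := fun i => by
    show pE K p _ _ _ i (1 : K ⊗[R] A) = 0
    rw [pE_apply, map_one (Bialgebra.counitAlgHom K (K ⊗[R] A)), map_one, sub_self, map_zero]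
  have hEx : ∀ i s : ℕ, 1 ≤ i → i ≤ p - 1 → 1 ≤ s → s ≤ p - 1 →
      E i (x ^ s) = if i = s then x ^ s else 0 := by
    intro i s hi1 hi hs1 hs
    show pE K p _ _ _ i (x ^ s) = _
    rw [pE_of_mem hK.toChi (pow_mem_eigenAug hx hs1)]
    by_cases his : i = s
    · rw [if_pos his, his, if_pos rfl]
    · rw [if_neg his, if_neg]
      intro hc
      rcases eq_or_lt_of_le hi with hi' | hi' <;> rcases eq_or_lt_of_le hs with hs' | hs'
      · omega
      · rw [hi', Nat.mod_self, Nat.mod_eq_of_lt hs'] at hc; omega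
      · rw [hs', Nat.mod_self, Nat.mod_eq_of_lt hi'] at hc; omega
      · rw [Nat.mod_eq_of_lt hi', Nat.mod_eq_of_lt hs'] at hc; omega
  let v : Fin p → K ⊗[R] A := fun s => x ^ (s : ℕ)
  have hEv : ∀ i, 1 ≤ i → i ≤ p - 1 → ∀ c : Fin p → K,
      E i (∑ s, c s • v s) = if hip : i < p then c ⟨i, hip⟩ • x ^ i else 0 := by
    intro i hi1 hi c
    have hip : i < p := by have := hpF.out.one_lt; omega
    rw [dif_pos hip, map_sum, Finset.sum_eq_single ⟨i, hip⟩]
    · rw [map_smul, hEx i i hi1 hi hi1 hi, if_pos rfl]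
    · intro s _ hs
      rw [map_smul]
      by_cases hs0 : (s : ℕ) = 0
      · simp [v, hs0, h1]
      · have hs' : (s : ℕ) ≤ p - 1 := by have := s.isLt; omega
        rw [hEx i s hi1 hi (Nat.one_le_iff_ne_zero.2 hs0) hs',
          if_neg (fun hc => hs (Fin.ext hc.symm)), smul_zero]
    · simp
  have hli : LinearIndependent K v := by
    rw [Fintype.linearIndependent_iff]
    intro c hc s
    have hpos : ∀ s : Fin p, (s : ℕ) ≠ 0 → c s = 0 := by
      intro s hs
      have hs' : (s : ℕ) ≤ p - 1 := by have := s.isLt; omega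
      have := hEv s (Nat.one_le_iff_ne_zero.2 hs) hs' c
      rw [hc, map_zero, dif_pos s.isLt] at this
      exact (smul_eq_zero.1 this.symm).resolve_right (hnz _ hs')
    by_cases hs : (s : ℕ) = 0
    · have hsum : ∑ s', c s' • v s' = c s • v s := Finset.sum_eq_single s (fun s' _ hs' => by
        rw [hpos s' (fun hc' => hs' (Fin.ext (hc'.trans hs.symm))), zero_smul]) (by simp)
      rw [hc, show v s = 1 by simp [v, hs]] at hsum
      have := congrArg (Bialgebra.counitAlgHom K (K ⊗[R] A)) hsum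
      simpa using this.symm
    · exact hpos s hs
  have hspan := hli.span_eq_top_of_card_eq_finrank' (by rw [Fintype.card_fin, hdim])
  obtain ⟨c, hc⟩ := (Submodule.mem_span_range_iff_exists_fun K).1
    (show a ∈ Submodule.span K (Set.range v) from hspan ▸ Submodule.mem_top)
  have hip : t < p := by have := hpF.out.one_lt; omega
  refine ⟨c ⟨t, hip⟩, ?_⟩
  have := hEv t ht1 ht c
  rwa [hc, dif_pos hip, show E t a = a from pE_self hK.toChi ha] at this

/-- Every index is congruent to one in `[1, p - 1]`. -/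
theorem exists_index (i : ℕ) : ∃ t, 1 ≤ t ∧ t ≤ p - 1 ∧ t % (p - 1) = i % (p - 1) := by
  have h2 := hpF.out.two_le
  by_cases hi : i % (p - 1) = 0
  · exact ⟨p - 1, by omega, le_rfl, by rw [Nat.mod_self, hi]⟩
  · exact ⟨i % (p - 1), Nat.one_le_iff_ne_zero.2 hi, (Nat.mod_lt _ (by omega)).le, Nat.mod_mod _ _⟩

/-- The eigenspaces have rank one. -/
theorem rankAtStalk_eigenAug (h : Chi' p u χ) (hrk : ∀ q : PrimeSpectrum R, Module.rankAtStalk A q = p)
    (i : ℕ) (q : PrimeSpectrum R) :
    Module.rankAtStalk (↥(OortTate.eigenAug R A p χ i)) q = 1 := by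
  classical
  have hp := killed hrk
  haveI := projective_eigenAug h.toChi hp i
  haveI := finite_eigenAug h.toChi hp i
  let K := AlgebraicClosure q.asIdeal.ResidueField
  have hK : RingHom.ker (algebraMap R K) = q.asIdeal := by
    rw [IsScalarTower.algebraMap_eq R q.asIdeal.ResidueField K,
      RingHom.ker_comp_of_injective _ (algebraMap q.asIdeal.ResidueField K).injective,
      Ideal.ker_algebraMap_residueField]
  rw [rankAtStalk_eq_finrank_field q K hK]
  obtain ⟨t, ht1, ht, hti⟩ := exists_index (p := p) i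
  obtain ⟨x, hx, hnz, hline⟩ := exists_line h hrk K
  let j : K ⊗[R] OortTate.eigenAug R A p χ i →ₗ[K] K ⊗[R] A :=
    (OortTate.eigenAug R A p χ i).subtype.baseChange K
  have hinj : Function.Injective j := by
    refine Function.LeftInverse.injective (g := (prE R p u χ A hp i).baseChange K) fun z => ?_
    rw [← LinearMap.comp_apply, ← LinearMap.baseChange_comp, prE_subtype h.toChi, LinearMap.baseChange_id]
    rfl
  have hpEx : pE K p (algebraMap R K u) (chiMap K χ) (K ⊗[R] A) i (x ^ t) = x ^ t := by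
    rw [pE_of_mem (h.map K).toChi (pow_mem_eigenAug hx ht1), if_pos hti.symm]
  have hrange : LinearMap.range j = Submodule.span K {x ^ t} := by
    refine le_antisymm ?_ ?_
    · rintro _ ⟨z, rfl⟩
      induction z using TensorProduct.induction_on with
      | zero => simp
      | tmul s a =>
        have hmem : (1 : K) ⊗ₜ[R] (a : A) ∈ OortTate.eigenAug K (K ⊗[R] A) p (chiMap K χ) t := by
          rw [← eigenAug_mod, hti, eigenAug_mod, ← pE_self h.toChi a.2, ← pE_baseChange]
          obtain ⟨_, hdim⟩ := finrank_baseChange_local hrk K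
          exact pE_mem (killed_of_finrank hdim) i _
        obtain ⟨c, hc⟩ := hline t ht1 ht _ hmem
        rw [Submodule.mem_span_singleton]
        refine ⟨s * c, ?_⟩
        rw [mul_smul, ← hc]
        simp [j, TensorProduct.smul_tmul']
      | add a b ha hb => rw [map_add]; exact Submodule.add_mem _ ha hb
    · rw [Submodule.span_le, Set.singleton_subset_iff, SetLike.mem_coe, ← hpEx]
      suffices ∀ z, pE K p (algebraMap R K u) (chiMap K χ) (K ⊗[R] A) i z ∈ LinearMap.range j from this _
      intro z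
      induction z using TensorProduct.induction_on with
      | zero => simp
      | tmul s a =>
        rw [← mul_one s, ← smul_eq_mul, ← TensorProduct.smul_tmul', map_smul, pE_baseChange]
        exact Submodule.smul_mem _ _ ⟨1 ⊗ₜ[R] prE R p u χ A hp i a, rfl⟩
      | add a b ha hb => rw [map_add]; exact Submodule.add_mem _ ha hb
  rw [← LinearMap.finrank_range_of_inj hinj, hrange, finrank_span_singleton (hnz t ht)]

/-- The first eigenspace generates. -/
theorem pow_eigenAug (h : Chi' p u χ) (hrk : ∀ q : PrimeSpectrum R, Module.rankAtStalk A q = p)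
    {t : ℕ} (ht1 : 1 ≤ t) (ht : t ≤ p - 1) :
    OortTate.eigenAug R A p χ 1 ^ t = OortTate.eigenAug R A p χ t := by
  classical
  have hp := killed hrk
  set N := OortTate.eigenAug R A p χ 1 ^ t with hN
  set T := OortTate.eigenAug R A p χ t with hT
  have hNT : N ≤ T := submodule_pow_le t ht1
  refine le_antisymm hNT ?_
  haveI := finite_eigenAug h.toChi hp t
  have hfg : T.FG := Module.Finite.iff_fg.1 inferInstance
  by_contra hne
  -- the ideal of scalars pushing `T` into `N`
  let J : Ideal R :=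
    { carrier := {r | ∀ a ∈ T, r • a ∈ N}
      add_mem' := fun {r s} hr hs a ha => by rw [add_smul]; exact N.add_mem (hr a ha) (hs a ha)
      zero_mem' := fun a _ => by rw [zero_smul]; exact N.zero_mem
      smul_mem' := fun c r hr a ha => by rw [smul_eq_mul, mul_smul]; exact N.smul_mem _ (hr a ha) }
  have hJ : J ≠ ⊤ := fun hJ => hne fun a ha => by
    simpa using (show (1 : R) ∈ J from hJ ▸ Submodule.mem_top) a ha
  obtain ⟨𝔪, h𝔪, hle⟩ := Ideal.exists_le_maximal _ hJ
  letI := Ideal.Quotient.field 𝔪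
  let κ := R ⧸ 𝔪
  let K := AlgebraicClosure κ
  obtain ⟨x, hx, hnz, hline⟩ := exists_line h hrk K
  obtain ⟨_, hdim⟩ := finrank_baseChange_local hrk K
  let W : ℕ → Submodule K (K ⊗[R] A) := fun s => Submodule.span K
    ((fun a : A => (1 : K) ⊗ₜ[R] a) '' ((OortTate.eigenAug R A p χ 1 ^ s : Submodule R A) : Set A))
  have hW1 : x ∈ W 1 := by
    rw [← pE_self (h.map K).toChi hx]
    suffices ∀ z, pE K p (algebraMap R K u) (chiMap K χ) (K ⊗[R] A) 1 z ∈ W 1 from this _
    intro z
    induction z using TensorProduct.induction_on with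
    | zero => simp
    | tmul s a =>
      rw [← mul_one s, ← smul_eq_mul, ← TensorProduct.smul_tmul', map_smul, pE_baseChange]
      refine Submodule.smul_mem _ _ (Submodule.subset_span ⟨_, ?_, rfl⟩)
      rw [pow_one]
      exact pE_mem hp 1 a
    | add a b ha hb => rw [map_add]; exact Submodule.add_mem _ ha hb
  have hWmul : ∀ s, W s * W 1 ≤ W (s + 1) := by
    intro s
    rw [Submodule.span_mul_span, Submodule.span_le]
    rintro _ ⟨_, ⟨a, ha, rfl⟩, _, ⟨b, hb, rfl⟩, rfl⟩
    refine Submodule.subset_span ⟨a * b, ?_, by simp [Algebra.TensorProduct.tmul_mul_tmul]⟩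
    rw [pow_succ]
    exact Submodule.mul_mem_mul ha (by simpa using hb)
  have hxs : ∀ s, 1 ≤ s → x ^ s ∈ W s := by
    intro s hs
    induction s, hs using Nat.le_induction with
    | base => simpa using hW1
    | succ s _ ih =>
      rw [pow_succ]
      exact hWmul s (Submodule.mul_mem_mul ih hW1)
  have hxt : x ^ t ∈ W t := hxs t ht1
  have hsup : T ≤ N ⊔ 𝔪 • T := by
    intro a ha
    have hmem : (1 : K) ⊗ₜ[R] a ∈ OortTate.eigenAug K (K ⊗[R] A) p (chiMap K χ) t := by
      rw [← pE_self h.toChi ha, ← pE_baseChange]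
      exact pE_mem (killed_of_finrank hdim) t _
    obtain ⟨c, hc⟩ := hline t ht1 ht _ hmem
    have haW : (1 : K) ⊗ₜ[R] a ∈ W t := hc ▸ Submodule.smul_mem _ _ hxt
    have hsub : a ∈ N ⊔ 𝔪 • (⊤ : Submodule R A) := by
      by_contra hna
      let V := A ⧸ (N ⊔ 𝔪 • (⊤ : Submodule R A))
      have htor : Module.IsTorsionBySet R V (𝔪 : Set R) := by
        rintro z ⟨r, hr⟩
        obtain ⟨b, rfl⟩ := Submodule.Quotient.mk_surjective _ z
        show r • (Submodule.Quotient.mk b : V) = 0
        rw [← Submodule.Quotient.mk_smul, Submodule.Quotient.mk_eq_zero]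
        exact Submodule.mem_sup_right (Submodule.smul_mem_smul hr Submodule.mem_top)
      letI : Module κ V := htor.module
      haveI : IsScalarTower R κ V := htor.isScalarTower
      obtain ⟨φ, hφ⟩ : ∃ φ : Module.Dual κ V, φ (Submodule.Quotient.mk a) ≠ 0 := by
        by_contra hc'
        push Not at hc'
        exact hna ((Submodule.Quotient.mk_eq_zero _).1 ((Module.forall_dual_apply_eq_zero_iff κ _).1 hc'))
      let Λ : A →ₗ[R] K := (Algebra.linearMap κ K ∘ₗ φ).restrictScalars R ∘ₗ
        (N ⊔ 𝔪 • (⊤ : Submodule R A)).mkQ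
      have hΛW : W t ≤ LinearMap.ker (Λ.liftBaseChange K) := by
        rw [Submodule.span_le]
        rintro _ ⟨b, hb, rfl⟩
        rw [SetLike.mem_coe, LinearMap.mem_ker, LinearMap.liftBaseChange_tmul, one_smul]
        have hb0 : (N ⊔ 𝔪 • (⊤ : Submodule R A)).mkQ b = 0 := by
          rw [Submodule.mkQ_apply, Submodule.Quotient.mk_eq_zero]
          exact Submodule.mem_sup_left hb
        simp only [Λ, LinearMap.comp_apply, hb0, map_zero]
      have hzero := LinearMap.mem_ker.1 (hΛW haW)
      rw [LinearMap.liftBaseChange_tmul, one_smul] at hzero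
      exact hφ ((algebraMap κ K).injective (hzero.trans (map_zero _).symm))
    obtain ⟨n, hn, m, hm, hnm⟩ := Submodule.mem_sup.1 hsub
    rw [← pE_self h.toChi ha, ← hnm, map_add, pE_self h.toChi (hNT hn)]
    refine Submodule.add_mem_sup hn ?_
    have := Submodule.mem_map_of_mem (f := pE R p u χ A t) hm
    rw [Submodule.map_smul''] at this
    refine Submodule.smul_mono le_rfl ?_ this
    rintro _ ⟨b, -, rfl⟩
    exact pE_mem hp t b
  have htop : (⊤ : Submodule R (A ⧸ N)) ⊓ T.map N.mkQ ≤ 𝔪 • T.map N.mkQ := by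
    rw [top_inf_eq]
    refine (Submodule.map_mono hsup).trans ?_
    rw [Submodule.map_sup, Submodule.map_smul'', Submodule.mkQ_map_self, bot_sup_eq]
  rw [top_inf_eq] at htop
  obtain ⟨r, hr1, hr0⟩ :=
    Submodule.exists_sub_one_mem_and_smul_eq_zero_of_fg_of_le_smul 𝔪 _ (hfg.map _) htop
  have hrJ : r ∈ J := fun a ha => by
    have h0 := hr0 _ (Submodule.mem_map_of_mem (f := N.mkQ) ha)
    rwa [← map_smul, Submodule.mkQ_apply, Submodule.Quotient.mk_eq_zero] at h0
  exact h𝔪.ne_top ((Ideal.eq_top_iff_one _).2 (by simpa using 𝔪.sub_mem (hle hrJ) hr1))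

end Groth.L15.OT
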