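import Groth.Agent.L15.OT.Univ
import Mathlib.RingTheory.TensorProduct.Maps

/-!
The universal point of the pairing between a Hopf algebra and its dual, through the identification of
`A ⊗ Aᴰ` with the convolution algebra of endomorphisms of `A`.
-/

set_option autoImplicit false

noncomputable section

universe u

open TensorProduct
open WithConv Coalgebra

namespace Groth.L15.OT

variable {R : Type u} [CommRing R] {A : Type u} [CommRing A] [HopfAlgebra R A]

variable (R A) in
/-- The comparison map `a ⊗ φ ↦ (b ↦ φ b • a)`. -/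
def psiLin : A ⊗[R] CartDual.D R A →ₗ[R] WithConv (A →ₗ[R] A) :=
  TensorProduct.lift
    (LinearMap.mk₂ R (fun (a : A) (φ : CartDual.D R A) => toConv (LinearMap.toSpanSingleton R A a ∘ₗ φ.ofConv))
      (fun a b φ => by ext c; simp [smul_add])
      (fun r a φ => by ext c; simp [smul_comm r])
      (fun a φ ψ => by ext c; simp [add_smul])
      (fun r a φ => by ext c; simp [mul_smul]))

theorem psiLin_tmul (a : A) (φ : CartDual.D R A) (b : A) :
    (psiLin R A (a ⊗ₜ φ)).ofConv b = φ.ofConv b • a := by
  simp [psiLin]

theorem psiLin_injective [Module.Finite R A] [Module.Projective R A] :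
    Function.Injective (psiLin R A) := by
  classical
  obtain ⟨n, f, g, -, -, hfg⟩ := Module.Finite.exists_comp_eq_id_of_projective R A
  let fs : Fin n → A →ₗ[R] R := fun i => LinearMap.proj i ∘ₗ g
  let ms : Fin n → A := fun i => f (Pi.single i 1)
  have hframe : ∀ a : A, ∑ i, fs i a • ms i = a := by
    intro a
    conv_rhs => rw [← LinearMap.id_apply (R := R) a, ← hfg, LinearMap.comp_apply, pi_eq_sum_univ' (g a), map_sum]
    exact Finset.sum_congr rfl fun i _ => (map_smul f _ _).symm
  have hdual : ∀ φ : CartDual.D R A, ∑ i, φ.ofConv (ms i) • toConv (fs i) = φ := fun φ => by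
    apply WithConv.ext
    refine LinearMap.ext fun a => ?_
    conv_rhs => rw [← hframe a, map_sum]
    simp only [WithConv.ofConv_sum, WithConv.ofConv_smul, WithConv.ofConv_toConv, LinearMap.sum_apply,
      LinearMap.smul_apply]
    exact Finset.sum_congr rfl fun i _ => by rw [map_smul, smul_eq_mul, smul_eq_mul, mul_comm]
  let inv : WithConv (A →ₗ[R] A) → A ⊗[R] CartDual.D R A := fun F => ∑ i, F.ofConv (ms i) ⊗ₜ[R] toConv (fs i)
  refine Function.LeftInverse.injective (g := inv) fun z => ?_
  induction z using TensorProduct.induction_on with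
  | zero => simp [inv]
  | tmul a φ =>
    simp only [inv, psiLin_tmul, TensorProduct.smul_tmul]
    rw [← TensorProduct.tmul_sum, hdual]
  | add x y hx hy =>
    simp only [inv] at hx hy ⊢
    simp only [map_add, WithConv.ofConv_add, LinearMap.add_apply, TensorProduct.add_tmul,
      Finset.sum_add_distrib, hx, hy]

theorem psiLin_apply [Module.Finite R A] [Module.Projective R A] (z : A ⊗[R] CartDual.D R A) (a : A) :
    (psiLin R A z).ofConv a = TensorProduct.rid R A
      (LinearMap.lTensor A ((Module.Dual.eval R A a) ∘ₗ (CartDual.toDual R A).toLinearMap) z) := by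
  induction z using TensorProduct.induction_on with
  | zero => simp
  | tmul b φ => simp [psiLin_tmul]
  | add x y hx hy => simp only [map_add, WithConv.ofConv_add, LinearMap.add_apply, hx, hy]

variable [Coalgebra.IsCocomm R A]

variable (R A) in
/-- The comparison map as an algebra map. -/
def psi : A ⊗[R] CartDual.D R A →ₐ[R] WithConv (A →ₗ[R] A) :=
  Algebra.TensorProduct.algHomOfLinearMapTensorProduct (psiLin R A)
    (fun a₁ a₂ φ₁ φ₂ => by
      apply WithConv.ext
      refine LinearMap.ext fun b => ?_
      rw [psiLin_tmul, LinearMap.convMul_apply, LinearMap.convMul_apply, ← (ℛ R b).eq, map_sum, map_sum,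
        map_sum, map_sum, Finset.sum_smul]
      refine Finset.sum_congr rfl fun i _ => ?_
      simp only [TensorProduct.map_tmul, LinearMap.mul'_apply, psiLin_tmul, smul_mul_smul_comm])
    (by
      apply WithConv.ext
      refine LinearMap.ext fun b => ?_
      rw [psiLin_tmul, LinearMap.convOne_apply, LinearMap.convOne_apply]
      simp [Algebra.algebraMap_eq_smul_one])

theorem psi_apply (z : A ⊗[R] CartDual.D R A) : psi R A z = psiLin R A z := rfl

variable [Module.Finite R A] [Module.Projective R A] {p : ℕ} [hpF : Fact p.Prime] {u : R}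
  {χ : (ZMod p)ˣ →* Rˣ}

/-- The map out of the group algebra sending the generator to the universal point is the tautological one. -/
theorem psi_comp (hp : Killed R A p) (δ : A ⊗[R] CartDual.D R A)
    (hδ : ∀ a : A, TensorProduct.rid R A
      (LinearMap.lTensor A ((Module.Dual.eval R A a) ∘ₗ (CartDual.toDual R A).toLinearMap) δ) = a)
    (ϕ : MonoidAlgebra R (Multiplicative (ZMod p)) →ₐ[R] A ⊗[R] CartDual.D R A)
    (hϕ : ϕ (OortTate.muT R p) = δ) : (psi R A).comp ϕ = liftHom hp := by
  have h1 : ((psi R A).comp ϕ) (OortTate.muT R p) = liftHom hp (OortTate.muT R p) := by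
    rw [AlgHom.comp_apply, hϕ, OortTate.muT, liftHom, MonoidAlgebra.lift_of]
    apply WithConv.ext
    refine LinearMap.ext fun a => ?_
    rw [psi_apply, psiLin_apply, hδ]
    show a = SGA3b.powConv R A (Multiplicative.toAdd (Multiplicative.ofAdd (1 : ZMod p))).val a
    rw [toAdd_ofAdd]
    haveI : Fact (1 < p) := ⟨hpF.out.one_lt⟩
    rw [ZMod.val_one, powConv_one]
  refine AlgHom.ext fun z => ?_
  induction z using MonoidAlgebra.induction_on with
  | of g =>
    have hg : g = Multiplicative.ofAdd (1 : ZMod p) ^ (Multiplicative.toAdd g).val :=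
      Multiplicative.toAdd.injective (by
        rw [toAdd_pow, toAdd_ofAdd, nsmul_one, ZMod.natCast_zmod_val])
    rw [hg, map_pow, map_pow, map_pow]
    exact congrArg (· ^ _) h1
  | add a b ha hb => rw [map_add, map_add, ha, hb]
  | smul r a ha => rw [map_smul, map_smul, ha]

theorem dual_pE (φ : CartDual.D R A) (i : ℕ) (a : A) :
    (pE R p u χ (CartDual.D R A) i φ).ofConv a = φ.ofConv (pE R p u χ A i a) := by
  simp only [pE_apply, proj_apply, map_smul, map_sum, map_sub, WithConv.ofConv_smul, WithConv.ofConv_sum,
    WithConv.ofConv_sub, LinearMap.smul_apply, LinearMap.sum_apply, LinearMap.sub_apply, powConv_dual,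
    AlgHom.commutes, counit_dual]
  congr 1
  refine congrArg (u • ·) (Finset.sum_congr rfl fun m _ => congrArg (((χ m⁻¹ : R) ^ i) • ·) ?_)
  simp [Algebra.algebraMap_eq_smul_one, mul_comm]

/-- For a module of rank one, the tensor of a vector with a form is symmetric in the vectors. -/
theorem apply_smul_swap {M : Type u} [AddCommGroup M] [Module R M] [Module.Finite R M] [Module.Projective R M]
    (hrk : ∀ q : PrimeSpectrum R, Module.rankAtStalk M q = 1) (g : M →ₗ[R] R) (a c : M) :
    g c • a = g a • c := by
  refine eq_of_locally (R := R) fun 𝔪 h𝔪 => ?_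
  haveI := h𝔪.isPrime
  obtain ⟨s, hs, x, hx⟩ := exists_cyclic hrk 𝔪
  obtain ⟨r, hr⟩ := hx a
  obtain ⟨r', hr'⟩ := hx c
  refine ⟨s * s, fun hc => (h𝔪.isPrime.mem_or_mem hc).elim hs hs, ?_⟩
  have e : ∀ (b d : M), (s * s) • (g d • b) = g (s • d) • (s • b) := fun b d => by
    rw [map_smul, smul_eq_mul, smul_smul, smul_smul]
    congr 1
    ring
  rw [e, e, hr, hr', map_smul, map_smul, smul_smul, smul_smul]
  simp only [smul_eq_mul]
  congr 1
  ring

/-- The image of the first generator spans the tensor product of the first eigenspaces, faithfully. -/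
theorem span_pairing (h : Chi' p u χ) (hrk : ∀ q : PrimeSpectrum R, Module.rankAtStalk A q = p)
    (δ : A ⊗[R] CartDual.D R A)
    (hδ : ∀ a : A, TensorProduct.rid R A
      (LinearMap.lTensor A ((Module.Dual.eval R A a) ∘ₗ (CartDual.toDual R A).toLinearMap) δ) = a)
    (ϕ : MonoidAlgebra R (Multiplicative (ZMod p)) →ₐ[R] A ⊗[R] CartDual.D R A)
    (hϕ : ϕ (OortTate.muT R p) = δ) :
    Submodule.span R {ϕ (OortTate.ygen R p u χ 1)} =
        LinearMap.range (TensorProduct.map (OortTate.eigenAug R A p χ 1).subtype
          (OortTate.eigenAug R (CartDual.D R A) p χ 1).subtype) ∧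
      ∀ r : R, r • ϕ (OortTate.ygen R p u χ 1) = 0 → r = 0 := by
  have hp := killed hrk
  haveI := projective_eigenAug (A := A) h.toChi hp 1
  haveI := finite_eigenAug (A := A) h.toChi hp 1
  have hrk1 := rankAtStalk_eigenAug (A := A) h hrk 1
  set z := ϕ (OortTate.ygen R p u χ 1) with hz
  have hΨz : psiLin R A z = toConv (pE R p u χ A 1) := by
    rw [hz, ← psi_apply, ← AlgHom.comp_apply, psi_comp hp δ hδ ϕ hϕ, liftHom_ygen]
  refine ⟨le_antisymm ?_ ?_, fun r hr => ?_⟩
  · rw [Submodule.span_le, Set.singleton_subset_iff]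
    have hPP : ∀ w : A ⊗[R] CartDual.D R A, ∀ a,
        (psiLin R A (TensorProduct.map (pE R p u χ A 1) (pE R p u χ (CartDual.D R A) 1) w)).ofConv a =
          pE R p u χ A 1 ((psiLin R A w).ofConv (pE R p u χ A 1 a)) := by
      intro w a
      induction w using TensorProduct.induction_on with
      | zero => simp
      | tmul b φ => simp [psiLin_tmul, dual_pE]
      | add x y hx hy => simp only [map_add, WithConv.ofConv_add, LinearMap.add_apply, hx, hy]
    have hfix : TensorProduct.map (pE R p u χ A 1) (pE R p u χ (CartDual.D R A) 1) z = z := by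
      apply psiLin_injective
      apply WithConv.ext
      refine LinearMap.ext fun a => ?_
      rw [hPP, hΨz]
      show pE R p u χ A 1 (pE R p u χ A 1 (pE R p u χ A 1 a)) = pE R p u χ A 1 a
      rw [pE_self h.toChi (pE_mem hp 1 a), pE_self h.toChi (pE_mem hp 1 a)]
    refine ⟨TensorProduct.map (prE R p u χ A hp 1) (prE R p u χ (CartDual.D R A) (killed_dual hp) 1) z, ?_⟩
    conv_rhs => rw [← hfix]
    rw [TensorProduct.map_map]
    rfl
  · rintro _ ⟨w, rfl⟩
    induction w using TensorProduct.induction_on with
    | zero => simp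
    | add x y hx hy => rw [map_add]; exact Submodule.add_mem _ hx hy
    | tmul a φ =>
      refine Submodule.mem_span_singleton.2 ⟨(φ : CartDual.D R A).ofConv (a : A), ?_⟩
      apply psiLin_injective
      apply WithConv.ext
      refine LinearMap.ext fun b => ?_
      rw [map_smul, hΨz, TensorProduct.map_tmul, psiLin_tmul, WithConv.ofConv_smul, LinearMap.smul_apply,
        WithConv.ofConv_toConv]
      show (φ : CartDual.D R A).ofConv (a : A) • pE R p u χ A 1 b = (φ : CartDual.D R A).ofConv b • (a : A)
      rw [← dual_apply_pE h.toChi hp φ.2 b]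
      exact congrArg Subtype.val (apply_smul_swap hrk1
        ((φ : CartDual.D R A).ofConv ∘ₗ (OortTate.eigenAug R A p χ 1).subtype)
        (⟨_, pE_mem hp 1 b⟩ : OortTate.eigenAug R A p χ 1) a)
  · refine faithful_of_rank hrk1 fun a => Subtype.ext ?_
    have h1 := congrArg (fun F => (psiLin R A F).ofConv (a : A)) hr
    simp only [map_smul, hΨz, WithConv.ofConv_smul, WithConv.ofConv_toConv, LinearMap.smul_apply, map_zero,
      WithConv.ofConv_zero, LinearMap.zero_apply, pE_self h.toChi a.2] at h1
    exact h1

end Groth.L15.OT
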