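import Groth.Agent.L15.OT.Main
import Groth.Agent.L15.OT.Line
import Mathlib.LinearAlgebra.TensorAlgebra.Basic

/-!
The presentation of a group scheme of rank `p` by its first eigenspace.
-/

set_option autoImplicit false

noncomputable section

universe u

open TensorProduct
open scoped Pointwise
open WithConv Coalgebra

namespace Groth.L15.OT

variable {R : Type u} [CommRing R] {p : ℕ} [hpF : Fact p.Prime] {u : R} {χ : (ZMod p)ˣ →* Rˣ}
  {A : Type u} [CommRing A] [HopfAlgebra R A]

variable (R A p χ) in
/-- The defining relations. -/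
def rels : Set (TensorAlgebra R (OortTate.eigenAug R A p χ 1)) :=
  {x | ∃ (f : Fin p → OortTate.eigenAug R A p χ 1) (g : OortTate.eigenAug R A p χ 1),
    (g : A) = ∏ i, (f i : A) ∧
    x = (List.ofFn fun i => TensorAlgebra.ι R (f i)).prod - TensorAlgebra.ι R g}

theorem prod_mem_one (f : Fin p → A) (hf : ∀ i, f i ∈ OortTate.eigenAug R A p χ 1) :
    ∏ i, f i ∈ OortTate.eigenAug R A p χ 1 := by
  have h := prod_mem_eigenAug f hf hpF.out.one_le
  have e : p % (p - 1) = 1 % (p - 1) := by
    conv_lhs => arg 1; rw [← Nat.sub_add_cancel hpF.out.one_le]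
    rw [Nat.add_mod_left]
  rwa [← eigenAug_mod, e, eigenAug_mod] at h

/-- Elements of a power of the generating space are combinations of words. -/
theorem pow_range_le (n : ℕ) :
    (LinearMap.range (TensorAlgebra.ι R (M := OortTate.eigenAug R A p χ 1))) ^ n ≤
      Submodule.span R (Set.range fun f : Fin n → OortTate.eigenAug R A p χ 1 =>
        (List.ofFn fun i => TensorAlgebra.ι R (f i)).prod) := by
  induction n with
  | zero =>
    rw [pow_zero, Submodule.one_eq_span, Submodule.span_le, Set.singleton_subset_iff]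
    exact Submodule.subset_span ⟨Fin.elim0, by simp⟩
  | succ n ih =>
    rw [pow_succ']
    refine Submodule.mul_le.2 fun a ha b hb => ?_
    obtain ⟨l, rfl⟩ := ha
    refine Submodule.span_induction ?_ (by simp) (fun c d _ _ hc hd => by rw [mul_add]; exact Submodule.add_mem _ hc hd)
      (fun r c _ hc => by rw [mul_smul_comm]; exact Submodule.smul_mem _ r hc) (ih hb)
    rintro _ ⟨f, rfl⟩
    exact Submodule.subset_span ⟨Fin.cons l f, by simp [List.ofFn_succ]⟩

theorem lift_word (f : Fin p → OortTate.eigenAug R A p χ 1) :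
    TensorAlgebra.lift R (OortTate.eigenAug R A p χ 1).subtype
      (List.ofFn fun i => TensorAlgebra.ι R (f i)).prod = ∏ i, (f i : A) := by
  rw [map_list_prod, List.map_ofFn, List.prod_ofFn]
  simp

theorem rels_le_ker :
    Ideal.span (rels R p χ A) ≤ RingHom.ker (TensorAlgebra.lift R (OortTate.eigenAug R A p χ 1).subtype) := by
  refine Ideal.span_le.2 ?_
  rintro _ ⟨f, g, hg, rfl⟩
  rw [SetLike.mem_coe, RingHom.mem_ker, map_sub, lift_word, ← hg, TensorAlgebra.lift_ι_apply, Submodule.subtype_apply, sub_self]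

/-- The span of the short words. -/
def shortWords : Submodule R (TensorAlgebra R (OortTate.eigenAug R A p χ 1)) :=
  ⨆ t : Fin p, (LinearMap.range (TensorAlgebra.ι R (M := OortTate.eigenAug R A p χ 1))) ^ (t : ℕ)

/-- Every element is congruent to a combination of short words. -/
theorem mem_sup_short (z : TensorAlgebra R (OortTate.eigenAug R A p χ 1)) :
    z ∈ (Ideal.span (rels R p χ A)).restrictScalars R ⊔ shortWords (R := R) (A := A) (p := p) (χ := χ) := by
  set W := LinearMap.range (TensorAlgebra.ι R (M := OortTate.eigenAug R A p χ 1)) with hW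
  set J := (Ideal.span (rels R p χ A)).restrictScalars R with hJ
  set M := J ⊔ shortWords (R := R) (A := A) (p := p) (χ := χ) with hM
  have hone : (1 : TensorAlgebra R (OortTate.eigenAug R A p χ 1)) ∈ M :=
    Submodule.mem_sup_right (Submodule.mem_iSup_of_mem ⟨0, hpF.out.pos⟩ (by simp))
  have hbound : W ^ p ≤ M := by
    refine (pow_range_le p).trans (Submodule.span_le.2 ?_)
    rintro _ ⟨f, rfl⟩
    let g : OortTate.eigenAug R A p χ 1 := ⟨_, prod_mem_one (fun i => (f i : A)) fun i => (f i).2⟩
    show (List.ofFn fun i => TensorAlgebra.ι R (f i)).prod ∈ M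
    rw [← sub_add_cancel (List.ofFn fun i => TensorAlgebra.ι R (f i)).prod (TensorAlgebra.ι R g)]
    refine Submodule.add_mem_sup ?_ ?_
    · exact Ideal.subset_span ⟨f, g, rfl, rfl⟩
    · exact Submodule.mem_iSup_of_mem ⟨1, hpF.out.one_lt⟩ (by simp [hW])
  have hι : ∀ l, ∀ m ∈ M, TensorAlgebra.ι R l * m ∈ M := by
    intro l m hm
    obtain ⟨j, hj, v, hv, rfl⟩ := Submodule.mem_sup.1 hm
    rw [mul_add]
    refine Submodule.add_mem _ (Submodule.mem_sup_left (Ideal.mul_mem_left _ _ hj)) ?_
    unfold shortWords at hv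
    clear hm
    induction hv using Submodule.iSup_induction' with
    | mem t w hw =>
      have h2 : TensorAlgebra.ι R l * w ∈ W ^ ((t : ℕ) + 1) := by
        rw [pow_succ']; exact Submodule.mul_mem_mul ⟨l, rfl⟩ hw
      by_cases ht : (t : ℕ) + 1 < p
      · exact Submodule.mem_sup_right (Submodule.mem_iSup_of_mem ⟨(t : ℕ) + 1, ht⟩ h2)
      · rw [show (t : ℕ) + 1 = p by omega] at h2
        exact hbound h2
    | zero => simp
    | add a b _ _ ha hb => rw [mul_add]; exact Submodule.add_mem _ ha hb
  suffices ∀ m ∈ M, z * m ∈ M by simpa using this 1 hone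
  induction z using TensorAlgebra.induction with
  | algebraMap r => intro m hm; rw [← Algebra.smul_def]; exact M.smul_mem r hm
  | ι l => exact hι l
  | mul a b ha hb => intro m hm; rw [mul_assoc]; exact ha _ (hb _ hm)
  | add a b ha hb => intro m hm; rw [add_mul]; exact Submodule.add_mem _ (ha _ hm) (hb _ hm)

variable [Module.Finite R A] [Module.Projective R A]

theorem lift_surjective (h : Chi' p u χ) (hrk : ∀ q : PrimeSpectrum R, Module.rankAtStalk A q = p) :
    Function.Surjective (TensorAlgebra.lift R (OortTate.eigenAug R A p χ 1).subtype) := by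
  rw [← AlgHom.range_eq_top, eq_top_iff]
  intro a _
  have hp := killed hrk
  rw [← sum_pE h.toChi a]
  refine Subalgebra.add_mem _ (Subalgebra.algebraMap_mem _ _) (Subalgebra.sum_mem _ fun i _ => ?_)
  obtain ⟨t, ht1, ht, hti⟩ := exists_index (p := p) i
  have hmem : pE R p u χ A i a ∈ OortTate.eigenAug R A p χ 1 ^ t := by
    rw [pow_eigenAug h hrk ht1 ht, ← eigenAug_mod, hti, eigenAug_mod]
    exact pE_mem hp i a
  suffices hle : OortTate.eigenAug R A p χ 1 ^ t ≤
      Subalgebra.toSubmodule (TensorAlgebra.lift R (OortTate.eigenAug R A p χ 1).subtype).range from hle hmem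
  clear hmem hti
  induction t, ht1 using Nat.le_induction with
  | base => intro x hx; rw [pow_one] at hx; exact ⟨TensorAlgebra.ι R ⟨x, hx⟩, by simp⟩
  | succ n _ ih =>
    rw [pow_succ]
    refine Submodule.mul_le.2 fun x hx y hy => ?_
    exact Subalgebra.mul_mem _ (ih (by omega) hx) ⟨TensorAlgebra.ι R ⟨y, hy⟩, by simp⟩

/-- On short words of a fixed length the presentation map is injective. -/
theorem eq_zero_of_lift (h : Chi' p u χ) (hrk : ∀ q : PrimeSpectrum R, Module.rankAtStalk A q = p) {t : ℕ}
    (ht : t ≤ p - 1) {v : TensorAlgebra R (OortTate.eigenAug R A p χ 1)}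
    (hv : v ∈ (LinearMap.range (TensorAlgebra.ι R (M := OortTate.eigenAug R A p χ 1))) ^ t)
    (hv0 : TensorAlgebra.lift R (OortTate.eigenAug R A p χ 1).subtype v = 0) : v = 0 := by
  rcases Nat.eq_zero_or_pos t with ht0 | ht1
  · subst ht0
    rw [pow_zero, Submodule.mem_one] at hv
    obtain ⟨c, rfl⟩ := hv
    rw [AlgHom.commutes] at hv0
    have := congrArg (Bialgebra.counitAlgHom R A) hv0
    rw [AlgHom.commutes, map_zero, Algebra.algebraMap_self, RingHom.id_apply] at this
    rw [this, map_zero]
  have hp := killed hrk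
  haveI := projective_eigenAug (A := A) h.toChi hp 1
  haveI := finite_eigenAug (A := A) h.toChi hp 1
  haveI := projective_eigenAug (A := A) h.toChi hp t
  haveI := finite_eigenAug (A := A) h.toChi hp t
  refine eq_of_locally (R := R) fun 𝔪 h𝔪 => ?_
  obtain ⟨s, hs, x, hx⟩ := exists_cyclic (rankAtStalk_eigenAug h hrk 1) 𝔪
  have hgen : ∀ n : ℕ, ∀ w ∈ (LinearMap.range (TensorAlgebra.ι R (M := OortTate.eigenAug R A p χ 1))) ^ n,
      ∃ r : R, s ^ n • w = r • TensorAlgebra.ι R x ^ n := by
    intro n
    induction n with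
    | zero =>
      intro w hw
      rw [pow_zero, Submodule.mem_one] at hw
      obtain ⟨c, rfl⟩ := hw
      exact ⟨c, by simp [Algebra.algebraMap_eq_smul_one]⟩
    | succ n ih =>
      intro w hw
      rw [pow_succ] at hw
      induction hw using Submodule.mul_induction_on' with
      | mem_mul_mem a ha b hb =>
        obtain ⟨r, hr⟩ := ih a ha
        obtain ⟨l, rfl⟩ := hb
        obtain ⟨r', hr'⟩ := hx l
        refine ⟨r * r', ?_⟩
        rw [pow_succ, pow_succ, ← smul_mul_smul_comm, hr, ← map_smul, hr', map_smul, smul_mul_smul_comm]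
      | add a _ b _ ha hb =>
        obtain ⟨r, hr⟩ := ha
        obtain ⟨r', hr'⟩ := hb
        exact ⟨r + r', by rw [smul_add, hr, hr', add_smul]⟩
  obtain ⟨r, hr⟩ := hgen t v hv
  have hr0 : r • (x : A) ^ t = 0 := by
    have := congrArg (TensorAlgebra.lift R (OortTate.eigenAug R A p χ 1).subtype) hr
    rw [map_smul, hv0, smul_zero, map_smul, map_pow, TensorAlgebra.lift_ι_apply] at this
    exact this.symm
  have hr' : s ^ t * r = 0 := by
    refine faithful_of_rank (rankAtStalk_eigenAug h hrk t) fun z => Subtype.ext ?_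
    have hgen' : ∀ n, 1 ≤ n → ∀ y ∈ OortTate.eigenAug R A p χ 1 ^ n, ∃ c : R, s ^ n • y = c • (x : A) ^ n := by
      intro n hn
      induction n, hn using Nat.le_induction with
      | base =>
        intro y hy
        rw [pow_one] at hy
        obtain ⟨c, hc⟩ := hx ⟨y, hy⟩
        exact ⟨c, by rw [pow_one, pow_one]; exact congrArg Subtype.val hc⟩
      | succ n _ ih =>
        intro y hy
        rw [pow_succ] at hy
        induction hy using Submodule.mul_induction_on' with
        | mem_mul_mem a ha b hb =>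
          obtain ⟨c, hc⟩ := ih a ha
          obtain ⟨c', hc'⟩ := hx ⟨b, hb⟩
          have hc'' : s • b = c' • (x : A) := congrArg Subtype.val hc'
          exact ⟨c * c', by rw [pow_succ, pow_succ, ← smul_mul_smul_comm, hc, hc'', smul_mul_smul_comm]⟩
        | add a _ b _ ha hb =>
          obtain ⟨c, hc⟩ := ha
          obtain ⟨c', hc'⟩ := hb
          exact ⟨c + c', by rw [smul_add, hc, hc', add_smul]⟩
    obtain ⟨c, hc⟩ := hgen' t ht1 (z : A) (by rw [pow_eigenAug h hrk ht1 ht]; exact z.2)
    rw [Submodule.coe_smul, ZeroMemClass.coe_zero, mul_comm, mul_smul, hc, smul_smul, mul_comm, mul_smul, hr0, smul_zero]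
  refine ⟨s ^ (2 * t), fun hc => hs (h𝔪.isPrime.mem_of_pow_mem _ hc), ?_⟩
  rw [smul_zero, two_mul, pow_add, mul_smul, hr, smul_smul, hr', zero_smul]

/-- The kernel of the presentation map. -/
theorem ker_lift (h : Chi' p u χ) (hrk : ∀ q : PrimeSpectrum R, Module.rankAtStalk A q = p) :
    RingHom.ker (TensorAlgebra.lift R (OortTate.eigenAug R A p χ 1).subtype) = Ideal.span (rels R p χ A) := by
  classical
  refine le_antisymm (fun z hz => ?_) rels_le_ker
  have hp := killed hrk
  set T := TensorAlgebra.lift R (OortTate.eigenAug R A p χ 1).subtype with hT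
  obtain ⟨j, hj, v, hv, rfl⟩ := Submodule.mem_sup.1 (mem_sup_short z)
  rw [RingHom.mem_ker, map_add, RingHom.mem_ker.1 (rels_le_ker hj), zero_add] at hz
  unfold shortWords at hv
  obtain ⟨c, hc, hcsum⟩ := (Submodule.mem_iSup_iff_exists_finsupp _ v).1 hv
  suffices hv0 : v = 0 by rw [hv0, add_zero]; exact hj
  have hTc : ∀ t : Fin p, (t : ℕ) ≠ 0 → T (c t) ∈ OortTate.eigenAug R A p χ (t : ℕ) := by
    intro t ht
    have hmap : T (c t) ∈ ((LinearMap.range (TensorAlgebra.ι R
        (M := OortTate.eigenAug R A p χ 1))) ^ (t : ℕ)).map T.toLinearMap := ⟨_, hc t, rfl⟩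
    rw [Submodule.map_pow] at hmap
    refine submodule_pow_le (t : ℕ) (Nat.one_le_iff_ne_zero.2 ht) ?_
    have hle : (LinearMap.range (TensorAlgebra.ι R (M := OortTate.eigenAug R A p χ 1))).map T.toLinearMap ≤
        OortTate.eigenAug R A p χ 1 := by
      rintro _ ⟨_, ⟨l, rfl⟩, rfl⟩
      simp [hT]
    exact SetLike.le_def.1 (pow_le_pow_left' hle (t : ℕ)) hmap
  have hsum : ∑ t : Fin p, T (c t) = 0 := by
    have e : ∑ t : Fin p, c t = v := by
      rw [← hcsum, Finsupp.sum_fintype _ _ fun _ => rfl]
    rw [← map_sum, e, hz]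
  have hpos : ∀ t : Fin p, (t : ℕ) ≠ 0 → T (c t) = 0 := by
    intro t ht
    have h1 := congrArg (pE R p u χ A (t : ℕ)) hsum
    rw [map_sum, map_zero, Finset.sum_eq_single t] at h1
    · rwa [pE_self h.toChi (hTc t ht)] at h1
    · intro b _ hb
      by_cases hb0 : (b : ℕ) = 0
      · have := hc b
        rw [hb0, pow_zero, Submodule.mem_one] at this
        obtain ⟨r, hr⟩ := this
        rw [← hr, AlgHom.commutes, pE_apply, AlgHom.commutes]
        simp
      · rw [pE_of_mem h.toChi (hTc b hb0), if_neg]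
        have htl := t.isLt
        have hbl := b.isLt
        have hne : (t : ℕ) ≠ (b : ℕ) := fun he => hb (Fin.ext he.symm)
        intro hc'
        rcases eq_or_lt_of_le (show (t : ℕ) ≤ p - 1 by omega) with ht' | ht' <;>
          rcases eq_or_lt_of_le (show (b : ℕ) ≤ p - 1 by omega) with hb' | hb'
        · omega
        · rw [ht', Nat.mod_self, Nat.mod_eq_of_lt hb'] at hc'; omega
        · rw [hb', Nat.mod_self, Nat.mod_eq_of_lt ht'] at hc'; omega
        · rw [Nat.mod_eq_of_lt ht', Nat.mod_eq_of_lt hb'] at hc'; omega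
    · simp
  have hzero : ∀ t : Fin p, c t = 0 := by
    intro t
    refine eq_zero_of_lift h hrk (by have := t.isLt; omega) (hc t) ?_
    by_cases ht : (t : ℕ) = 0
    · rw [Finset.sum_eq_single t (fun b _ hb => hpos b (fun hb0 => hb (Fin.ext (hb0.trans ht.symm)))) (by simp)] at hsum
      exact hsum
    · exact hpos t ht
  rw [← hcsum, Finsupp.sum_fintype _ _ fun _ => rfl]
  exact Finset.sum_eq_zero fun t _ => hzero t

/-- An algebra map out of the algebra from a compatible map of the first eigenspace. -/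
theorem exists_algHom (h : Chi' p u χ) (hrk : ∀ q : PrimeSpectrum R, Module.rankAtStalk A q = p)
    {B : Type u} [CommRing B] [Algebra R B] (θ : OortTate.eigenAug R A p χ 1 →ₗ[R] B)
    (hθ : ∀ (f : Fin p → OortTate.eigenAug R A p χ 1) (g : OortTate.eigenAug R A p χ 1),
      (g : A) = ∏ i, (f i : A) → θ g = ∏ i, θ (f i)) :
    ∃ Θ : A →ₐ[R] B, ∀ l : OortTate.eigenAug R A p χ 1, Θ (l : A) = θ l := by
  set T := TensorAlgebra.lift R (OortTate.eigenAug R A p χ 1).subtype with hT
  let T' := TensorAlgebra.lift R θ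
  have hker : ∀ z z', T z = T z' → T' z = T' z' := by
    intro z z' hzz
    rw [← sub_eq_zero, ← map_sub]
    have hm : z - z' ∈ Ideal.span (rels R p χ A) := by
      rw [← ker_lift h hrk, RingHom.mem_ker, map_sub, sub_eq_zero]; exact hzz
    refine (Ideal.span_le.2 ?_ : Ideal.span (rels R p χ A) ≤ RingHom.ker T') hm
    rintro _ ⟨f, g, hg, rfl⟩
    rw [SetLike.mem_coe, RingHom.mem_ker, map_sub, map_list_prod, List.map_ofFn, List.prod_ofFn,
      TensorAlgebra.lift_ι_apply, hθ f g hg, sub_eq_zero]
    simp [T']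
  choose sec hsec using lift_surjective h hrk
  refine ⟨{ toFun := fun a => T' (sec a), map_one' := ?_, map_mul' := fun a b => ?_, map_zero' := ?_,
            map_add' := fun a b => ?_, commutes' := fun r => ?_ }, fun l => ?_⟩
  · exact (hker _ 1 (by rw [hsec, map_one])).trans (map_one T')
  · exact (hker _ (sec a * sec b) (by rw [hsec, map_mul, hsec, hsec])).trans (map_mul T' _ _)
  · exact (hker _ 0 (by rw [hsec, map_zero])).trans (map_zero T')
  · exact (hker _ (sec a + sec b) (by rw [hsec, map_add, hsec, hsec])).trans (map_add T' _ _)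
  · exact (hker _ (algebraMap R _ r) (by rw [hsec, AlgHom.commutes])).trans (AlgHom.commutes T' r)
  · exact (hker _ (TensorAlgebra.ι R l) (by rw [hsec]; simp [hT])).trans (TensorAlgebra.lift_ι_apply θ l)

/-- Two algebra maps agreeing on the first eigenspace agree. -/
theorem algHom_ext_eigen (h : Chi' p u χ) (hrk : ∀ q : PrimeSpectrum R, Module.rankAtStalk A q = p)
    {B : Type u} [CommRing B] [Algebra R B] {F G : A →ₐ[R] B}
    (hFG : ∀ l : OortTate.eigenAug R A p χ 1, F (l : A) = G (l : A)) : F = G := by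
  refine AlgHom.ext fun a => ?_
  obtain ⟨z, rfl⟩ := lift_surjective h hrk a
  have : F.comp (TensorAlgebra.lift R (OortTate.eigenAug R A p χ 1).subtype) =
      G.comp (TensorAlgebra.lift R (OortTate.eigenAug R A p χ 1).subtype) := by
    apply TensorAlgebra.hom_ext
    exact LinearMap.ext fun l => by simpa using hFG l
  exact AlgHom.congr_fun this z

end Groth.L15.OT
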