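import Mathlib.RingTheory.HopfAlgebra.Basic
import Mathlib.RingTheory.Bialgebra.Equiv
import Mathlib.RingTheory.TensorProduct.Maps
import Mathlib.Tactic.Module
import Mathlib.Tactic.LinearCombination
import Mathlib.Tactic.Ring

/-!
Hopf algebras whose augmentation ideal is free of rank one (groups of order two).
-/

set_option autoImplicit false

noncomputable section

universe u v w

open TensorProduct

namespace Groth.L15.OT

variable {R : Type u} [CommRing R] {A : Type v} [CommRing A] [HopfAlgebra R A]

/-- A generator of the augmentation ideal, as a structure. -/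
structure Gen (R : Type u) [CommRing R] (A : Type v) [CommRing A] [HopfAlgebra R A] where
  x : A
  hx : Bialgebra.counitAlgHom R A x = 0
  hgen : ∀ f : A, Bialgebra.counitAlgHom R A f = 0 → ∃ r : R, f = r • x
  hfree : ∀ r : R, r • x = 0 → r = 0

namespace Gen

variable (G : Gen R A)

theorem exists_decomp (f : A) :
    ∃ r : R, f = algebraMap R A (Bialgebra.counitAlgHom R A f) + r • G.x := by
  obtain ⟨r, hr⟩ := G.hgen (f - algebraMap R A (Bialgebra.counitAlgHom R A f)) (by
    rw [map_sub, AlgHom.commutes]; simp)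
  exact ⟨r, by rw [← hr]; abel⟩

theorem coeff_unique {e r e' r' : R} (h : algebraMap R A e + r • G.x = algebraMap R A e' + r' • G.x) :
    r = r' := by
  have h1 := congrArg (Bialgebra.counitAlgHom R A) h
  simp only [map_add, AlgHom.commutes, map_smul, G.hx, smul_zero, add_zero, Algebra.algebraMap_self,
    RingHom.id_apply] at h1
  subst h1
  exact sub_eq_zero.1 (G.hfree _ (by rw [sub_smul, sub_eq_zero]; exact add_left_cancel h))

/-- The coefficient of the generator. -/
def coeff : A →ₗ[R] R where
  toFun f := (G.exists_decomp f).choose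
  map_add' f g := by
    refine G.coeff_unique (e := Bialgebra.counitAlgHom R A (f + g))
      (e' := Bialgebra.counitAlgHom R A f + Bialgebra.counitAlgHom R A g) ?_
    rw [← (G.exists_decomp (f + g)).choose_spec, map_add, add_smul]
    conv_lhs => rw [(G.exists_decomp f).choose_spec, (G.exists_decomp g).choose_spec]
    abel
  map_smul' c f := by
    refine G.coeff_unique (e := Bialgebra.counitAlgHom R A (c • f))
      (e' := c * Bialgebra.counitAlgHom R A f) ?_
    rw [← (G.exists_decomp (c • f)).choose_spec]
    conv_lhs => rw [(G.exists_decomp f).choose_spec]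
    simp [smul_add, smul_smul, Algebra.smul_def]
    ring

theorem decomp (f : A) :
    f = algebraMap R A (Bialgebra.counitAlgHom R A f) + G.coeff f • G.x := (G.exists_decomp f).choose_spec

theorem coeff_x : G.coeff G.x = 1 :=
  G.coeff_unique (e := Bialgebra.counitAlgHom R A G.x) (e' := 0) (by rw [← G.decomp, map_zero, one_smul, zero_add])

theorem coeff_one : G.coeff 1 = 0 :=
  G.coeff_unique (e := Bialgebra.counitAlgHom R A 1) (e' := 1) (by rw [← G.decomp, map_one, zero_smul, add_zero])

theorem xx_free {r : R} (h : r • (G.x ⊗ₜ[R] G.x) = 0) : r = 0 := by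
  have h1 := congrArg (LinearMap.mul' R R ∘ₗ TensorProduct.map G.coeff G.coeff) h
  simpa [G.coeff_x] using h1

theorem algHom_ext {C : Type w} [Semiring C] [Algebra R C] {f g : A →ₐ[R] C} (h : f G.x = g G.x) : f = g := by
  refine AlgHom.ext fun z => ?_
  rw [G.decomp z, map_add, map_add, AlgHom.commutes, AlgHom.commutes, map_smul, map_smul, h]

theorem exists_data :
    ∃ a b : R, G.x * G.x = a • G.x ∧
      Bialgebra.comulAlgHom R A G.x = G.x ⊗ₜ[R] 1 + 1 ⊗ₜ[R] G.x + b • (G.x ⊗ₜ[R] G.x) ∧ a * b = -2 := by
  obtain ⟨a, ha⟩ := G.hgen (G.x * G.x) (by rw [map_mul, G.hx, mul_zero])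
  let π : A →ₗ[R] A := LinearMap.id - Algebra.linearMap R A ∘ₗ (Bialgebra.counitAlgHom R A).toLinearMap
  have hπ : ∀ f, π f = G.coeff f • G.x := fun f => by
    show f - algebraMap R A (Bialgebra.counitAlgHom R A f) = _
    conv_lhs => arg 1; rw [G.decomp f]
    abel
  have hcr : Coalgebra.comul (R := R) G.x = G.x ⊗ₜ[R] 1 + 1 ⊗ₜ[R] G.x +
      TensorProduct.map π π (Coalgebra.comul (R := R) G.x) := by
    have e : ∀ z : A ⊗[R] A, TensorProduct.map π π z = z
        - TensorProduct.map (Algebra.linearMap R A) (LinearMap.id : A →ₗ[R] A)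
            ((Coalgebra.counit (R := R) (A := A)).rTensor A z)
        - TensorProduct.map (LinearMap.id : A →ₗ[R] A) (Algebra.linearMap R A)
            ((Coalgebra.counit (R := R) (A := A)).lTensor A z)
        + TensorProduct.map (Algebra.linearMap R A) (Algebra.linearMap R A)
            (TensorProduct.map (Coalgebra.counit (R := R) (A := A)) (Coalgebra.counit (R := R) (A := A)) z) := by
      intro z
      induction z using TensorProduct.induction_on with
      | zero => simp
      | tmul a b =>
        simp only [π, TensorProduct.map_tmul, LinearMap.sub_apply, LinearMap.id_apply, LinearMap.comp_apply,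
          AlgHom.toLinearMap_apply, Bialgebra.counitAlgHom_apply, LinearMap.rTensor_tmul, LinearMap.lTensor_tmul,
          TensorProduct.sub_tmul, TensorProduct.tmul_sub]
        abel
      | add a b ha hb => simp only [map_add, ha, hb]; abel
    have e2 : TensorProduct.map (Coalgebra.counit (R := R) (A := A)) (Coalgebra.counit (R := R) (A := A))
        (Coalgebra.comul (R := R) G.x) = (Coalgebra.counit (R := R) (A := A) G.x) ⊗ₜ[R] (1 : R) := by
      rw [show TensorProduct.map (Coalgebra.counit (R := R) (A := A)) (Coalgebra.counit (R := R) (A := A)) =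
          (Coalgebra.counit (R := R) (A := A)).rTensor R ∘ₗ (Coalgebra.counit (R := R) (A := A)).lTensor A from
        TensorProduct.ext' fun a b => by simp, LinearMap.comp_apply, Coalgebra.lTensor_counit_comul,
        LinearMap.rTensor_tmul]
    rw [e, Coalgebra.rTensor_counit_comul, Coalgebra.lTensor_counit_comul, e2,
      show Coalgebra.counit (R := R) (A := A) G.x = 0 from G.hx]
    simp
    abel
  have hxx : ∀ z : A ⊗[R] A, ∃ b : R, TensorProduct.map π π z = b • (G.x ⊗ₜ[R] G.x) := by
    intro z
    induction z using TensorProduct.induction_on with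
    | zero => exact ⟨0, by simp⟩
    | tmul c d =>
      exact ⟨G.coeff c * G.coeff d, by rw [TensorProduct.map_tmul, hπ, hπ, TensorProduct.smul_tmul_smul]⟩
    | add c d hc hd =>
      obtain ⟨b, hb⟩ := hc
      obtain ⟨b', hb'⟩ := hd
      exact ⟨b + b', by rw [map_add, hb, hb', add_smul]⟩
  obtain ⟨b, hb⟩ := hxx (Coalgebra.comul (R := R) G.x)
  rw [hb] at hcr
  refine ⟨a, b, ha, hcr, ?_⟩
  obtain ⟨c, hc⟩ := G.hgen (HopfAlgebra.antipode R (A := A) G.x) (by
    rw [Bialgebra.counitAlgHom_apply, HopfAlgebra.counit_antipode]; exact G.hx)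
  have h1 := HopfAlgebra.mul_antipode_rTensor_comul_apply (R := R) G.x
  rw [hcr, show Coalgebra.counit (R := R) (A := A) G.x = 0 from G.hx] at h1
  simp only [map_add, map_smul, LinearMap.rTensor_tmul, LinearMap.mul'_apply, hc, HopfAlgebra.antipode_one,
    mul_one, one_mul, smul_mul_assoc, ha, smul_smul, map_zero, ← add_smul] at h1
  have h2 : c + 1 + b * (c * a) = 0 := G.hfree _ (by
    rw [add_smul, add_smul, one_smul, mul_smul]
    simp only [← smul_smul] at h1 ⊢
    linear_combination (norm := module) h1)
  have h3 : (2 + 3 * (a * b) + (a * b) * (a * b)) = 0 := by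
    refine G.xx_free ?_
    have hm := map_mul (Bialgebra.comulAlgHom R A) G.x G.x
    rw [ha, map_smul, show Bialgebra.comulAlgHom R A G.x = _ from hcr] at hm
    simp only [add_mul, mul_add, smul_mul_assoc, mul_smul_comm, Algebra.TensorProduct.tmul_mul_tmul,
      mul_one, one_mul, ha, TensorProduct.smul_tmul', TensorProduct.tmul_smul, smul_smul] at hm
    simp only [← TensorProduct.smul_tmul'] at hm
    linear_combination (norm := module) -hm
  linear_combination (a * b + 2) * h2 - c * h3

end Gen

variable {B : Type v} [CommRing B] [HopfAlgebra R B]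

theorem Gen.iso_iff (G : Gen R A) (H : Gen R B) {a b a' b' : R} (hxa : G.x * G.x = a • G.x)
    (hxb : Bialgebra.comulAlgHom R A G.x = G.x ⊗ₜ[R] 1 + 1 ⊗ₜ[R] G.x + b • (G.x ⊗ₜ[R] G.x))
    (hxa' : H.x * H.x = a' • H.x)
    (hxb' : Bialgebra.comulAlgHom R B H.x = H.x ⊗ₜ[R] 1 + 1 ⊗ₜ[R] H.x + b' • (H.x ⊗ₜ[R] H.x)) :
    Nonempty (A ≃ₐc[R] B) ↔ ∃ s : Rˣ, a = a' * (s : R) ∧ b' = b * (s : R) := by
  constructor
  · rintro ⟨e⟩
    have hε : ∀ f, Bialgebra.counitAlgHom R B (e f) = Bialgebra.counitAlgHom R A f := fun f =>
      CoalgHomClass.counit_comp_apply e f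
    have hε' : ∀ f, Bialgebra.counitAlgHom R A (e.symm f) = Bialgebra.counitAlgHom R B f := fun f =>
      CoalgHomClass.counit_comp_apply e.symm f
    obtain ⟨s, hs⟩ := H.hgen (e G.x) (by rw [hε, G.hx])
    obtain ⟨t, ht⟩ := G.hgen (e.symm H.x) (by rw [hε', H.hx])
    have hst : s * t = 1 := by
      refine sub_eq_zero.1 (G.hfree _ ?_)
      have := congrArg e.symm hs
      rw [e.symm_apply_apply, map_smul, ht, smul_smul] at this
      rw [sub_smul, one_smul, ← this, sub_self]
    have h1 : a * s = a' * (s * s) := by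
      refine sub_eq_zero.1 (H.hfree _ ?_)
      have := congrArg e hxa
      rw [map_mul, map_smul, hs, smul_mul_smul_comm, hxa', smul_smul, smul_smul] at this
      linear_combination (norm := module) -this
    have h2 : s * b' = b * (s * s) := by
      refine sub_eq_zero.1 (H.xx_free ?_)
      obtain ⟨E, hE, h⟩ : ∃ E : A →ₗ[R] B, (∀ z, E z = e z) ∧
          TensorProduct.map E E (Coalgebra.comul (R := R) G.x) = Coalgebra.comul (R := R) (e G.x) :=
        ⟨_, fun _ => rfl, CoalgHomClass.map_comp_comul_apply e G.x⟩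
      rw [show Coalgebra.comul (R := R) G.x = _ from hxb, hs, map_smul,
        show Coalgebra.comul (R := R) H.x = _ from hxb'] at h
      simp only [map_add, map_smul, TensorProduct.map_tmul, hE, hs, map_one,
        TensorProduct.smul_tmul', TensorProduct.tmul_smul, smul_smul, smul_add] at h
      simp only [← TensorProduct.smul_tmul'] at h
      linear_combination (norm := module) -h
    refine ⟨Units.mkOfMulEqOne s t hst, ?_, ?_⟩
    · show a = a' * s
      linear_combination t * h1 - (a - a' * s) * hst
    · show b' = b * s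
      linear_combination t * h2 - (b' - b * s) * hst
  · rintro ⟨s, has, hbs⟩
    have mk : ∀ {A' B' : Type v} [CommRing A'] [HopfAlgebra R A'] [CommRing B'] [HopfAlgebra R B']
        (P : Gen R A') (Q : Gen R B') (al al' r : R), P.x * P.x = al • P.x → Q.x * Q.x = al' • Q.x →
        al * r = al' * (r * r) → ∃ F : A' →ₐ[R] B', F P.x = r • Q.x := by
      intro A' B' _ _ _ _ P Q al al' r hP hQ hr
      let L : A' →ₗ[R] B' := Algebra.linearMap R B' ∘ₗ (Bialgebra.counitAlgHom R A').toLinearMap +
        LinearMap.toSpanSingleton R B' (r • Q.x) ∘ₗ P.coeff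
      have hL : ∀ f, L f = algebraMap R B' (Bialgebra.counitAlgHom R A' f) + P.coeff f • r • Q.x := fun f => rfl
      refine ⟨AlgHom.ofLinearMap L ?_ ?_, ?_⟩
      · rw [hL, map_one (Bialgebra.counitAlgHom R A'), P.coeff_one, zero_smul, add_zero, map_one]
      · intro f g
        have hm : P.coeff (f * g) = Bialgebra.counitAlgHom R A' f * P.coeff g +
            Bialgebra.counitAlgHom R A' g * P.coeff f + al * (P.coeff f * P.coeff g) := by
          refine P.coeff_unique (e := Bialgebra.counitAlgHom R A' (f * g))
            (e' := Bialgebra.counitAlgHom R A' f * Bialgebra.counitAlgHom R A' g) ?_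
          rw [← P.decomp]
          conv_lhs => rw [P.decomp f, P.decomp g]
          simp only [Algebra.algebraMap_eq_smul_one, add_mul, mul_add, smul_mul_smul_comm, one_mul, mul_one, hP,
            smul_smul]
          module
        rw [hL, hL, hL, map_mul, hm]
        simp only [Algebra.algebraMap_eq_smul_one, add_mul, mul_add, smul_mul_smul_comm, one_mul, mul_one, hQ,
          smul_smul]
        linear_combination (norm := module) (P.coeff f * P.coeff g) • congrArg (fun z : R => z • Q.x) hr
      · show L P.x = _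
        rw [hL, P.hx, map_zero, zero_add, P.coeff_x, one_smul]
    obtain ⟨F, hF⟩ := mk G H a a' s hxa hxa' (by linear_combination (s : R) * has)
    obtain ⟨F', hF'⟩ := mk H G a' a ((s⁻¹ : Rˣ) : R) hxa' hxa (by
      linear_combination -((s⁻¹ : Rˣ) : R) * ((s⁻¹ : Rˣ) : R) * has - a' * ((s⁻¹ : Rˣ) : R) * s.inv_mul)
    refine ⟨BialgEquiv.ofAlgEquiv (AlgEquiv.ofAlgHom F F'
      (H.algHom_ext (by rw [AlgHom.comp_apply, hF', map_smul, hF, smul_smul, s.inv_mul, one_smul, AlgHom.id_apply]))
      (G.algHom_ext (by rw [AlgHom.comp_apply, hF, map_smul, hF', smul_smul, s.mul_inv, one_smul, AlgHom.id_apply])))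
      (G.algHom_ext ?_) (G.algHom_ext ?_)⟩
    · show Bialgebra.counitAlgHom R B (F G.x) = _
      rw [hF, map_smul, H.hx, G.hx, smul_zero]
    show Algebra.TensorProduct.map F F (Bialgebra.comulAlgHom R A G.x) = Bialgebra.comulAlgHom R B (F G.x)
    rw [hxb, hF, map_smul, hxb', hbs]
    simp only [map_add, map_smul, Algebra.TensorProduct.map_tmul, hF, map_one, TensorProduct.smul_tmul',
        TensorProduct.tmul_smul, smul_smul, smul_add]

end Groth.L15.OT
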